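import Cfsg.Agent.ExtFieldMax.Orth.Three.Pair

/-!
A pair, or root elements, whenever some image of a line is not a line (helper98).
-/

set_option autoImplicit false

namespace Cfsg.Agent.ExtFieldMax.Orth.Three

open Matrix Cfsg.Agent.MaxSub

section Field

variable {F E : Type*} [Field F] [Finite F] [Field E] [Algebra F E] [FiniteDimensional F E]

omit [Finite F] in
/-- Squares descend in odd degree. -/
theorem isSquare_of_algebraMap (hodd : Odd (Module.finrank F E)) {t : F}
    (h : IsSquare (algebraMap F E t)) : IsSquare t := by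
  obtain ⟨y, hy⟩ := h
  obtain ⟨j, hj⟩ := hodd
  rcases eq_or_ne t 0 with rfl | ht
  · exact IsSquare.zero
  have h1 := congrArg (Algebra.norm F) hy
  rw [Algebra.norm_algebraMap, map_mul, hj] at h1
  refine ⟨Algebra.norm F y / t ^ j, ?_⟩
  field_simp
  linear_combination h1

/-- In odd degree above one some nonsquare is outside the base field. -/
theorem exists_nonsquare_outside (h2 : (2 : F) ≠ 0) (hodd : Odd (Module.finrank F E))
    (h1 : 1 < Module.finrank F E) :
    ∃ w : E, ¬ IsSquare w ∧ ∀ s : F, w ≠ algebraMap F E s := by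
  classical
  haveI : Fintype F := Fintype.ofFinite F
  obtain ⟨t, ht⟩ := FiniteField.exists_nonsquare (F := F) (fun h => h2 (by
    have := CharP.cast_eq_zero F (ringChar F)
    rw [h] at this
    exact_mod_cast this))
  obtain ⟨e, he⟩ : ∃ e : E, ∀ s : F, e ≠ algebraMap F E s := by
    by_contra hc
    push Not at hc
    have := finrank_le_one (R := F) (1 : E) fun k => by
      obtain ⟨s, hs⟩ := hc k
      exact ⟨s, by rw [hs, Algebra.smul_def, mul_one]⟩
    omega
  have he0 : e ≠ 0 := fun h => he 0 (by rw [h, map_zero])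
  have ht0 : t ≠ 0 := fun h => ht (h ▸ IsSquare.zero)
  refine ⟨algebraMap F E t * (e * e), fun hs => ht ?_, fun s hs => ?_⟩
  · refine isSquare_of_algebraMap hodd ?_
    obtain ⟨z, hz⟩ := hs
    exact ⟨z / e, by field_simp; linear_combination hz⟩
  · have h3 : IsSquare (algebraMap F E (s / t)) := ⟨e, by
      rw [map_div₀, ← hs]; field_simp [(map_ne_zero (algebraMap F E)).mpr ht0]⟩
    obtain ⟨u, hu⟩ := isSquare_of_algebraMap hodd h3
    have h4 : (e - algebraMap F E u) * (e + algebraMap F E u) = 0 := by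
      rw [show (e - algebraMap F E u) * (e + algebraMap F E u) =
        e * e - algebraMap F E u * algebraMap F E u by ring, ← map_mul, ← hu, map_div₀, ← hs]
      field_simp [(map_ne_zero (algebraMap F E)).mpr ht0]
      ring
    rcases mul_eq_zero.mp h4 with h | h
    · exact he u (sub_eq_zero.mp h)
    · exact he (-u) (by rw [map_neg]; exact eq_neg_of_add_eq_zero_left h)

end Field

variable {ι : Type} [Fintype ι] [DecidableEq ι] {F : Type*} [Field F] [Finite F]
variable {f : (ι → F) → (ι → F) → F} {K : Subalgebra F (Matrix ι ι F)} {r : ℕ}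
variable {H : Subgroup (GL ι F)} (D : Dim3 f K r H) (G : Sp.KForm f K)

variable {v v' w : ι → F} (Φ : Frame G v v' w) {g : GL ι F} (hg : g ∈ H)
include D Φ hg

theorem image_form {x y : ι → F} (hx : x ∈ lineImg K g v) (hy : y ∈ lineImg K g v) : f x y = 0 :=
  form_lineImg D.toSetting G hg Φ.hv hx hy

omit [Finite F] hg in
theorem preimage_indep {x y : ι → F} (hx : x ≠ 0) (hxy : ∀ s : F, y ≠ s • x) {c1 c2 : K}
    (h1 : (g : Matrix ι ι F) *ᵥ ev K v c1 = x) (h2 : (g : Matrix ι ι F) *ᵥ ev K v c2 = y) :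
    c1 ≠ 0 ∧ ∀ s : F, c2 ≠ s • c1 :=
  ⟨fun h => hx (by rw [← h1, h, map_zero, mulVec_zero]),
    fun s hs => hxy s (by rw [← h1, ← h2, hs, map_smul, mulVec_smul])⟩

/-- Signs on two vectors of the image. -/
theorem sign_case {e : GL ι F} (he : e ∈ H) {x y : ι → F} (hx : x ∈ lineImg K g v)
    (hy : y ∈ lineImg K g v) (hx0 : x ≠ 0) (hxy : ∀ s : F, y ≠ s • x) {s1 s2 : F}
    (hs1 : s1 * s1 = 1) (hs2 : s2 * s2 = 1) (h1 : (e : Matrix ι ι F) *ᵥ x = s1 • x)
    (h2 : (e : Matrix ι ι F) *ᵥ y = s2 • y) :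
    PairOrRoot D G Φ.hv ∨ s1 = s2 ∧ ∀ t ∈ lineImg K g v, (e : Matrix ι ι F) *ᵥ t = s1 • t := by
  obtain ⟨c1, hc1⟩ := mem_lineImg.mp hx
  obtain ⟨c2, hc2⟩ := mem_lineImg.mp hy
  obtain ⟨hne, hind⟩ := preimage_indep D G Φ hx0 hxy hc1 hc2
  exact sign_or_pair D G Φ hg he hne hind hs1 hs2 (by rw [hc1]; exact h1) (by rw [hc2]; exact h2)

/-- A moving element stabilising two vectors of the image. -/
theorem move_case {e : GL ι F} (he : e ∈ H) {x y : ι → F} (hx : x ∈ lineImg K g v)
    (hy : y ∈ lineImg K g v) (hx0 : x ≠ 0) (hxy : ∀ s : F, y ≠ s • x)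
    (h1 : (e : Matrix ι ι F) *ᵥ x ∈ Submodule.span F ({x, y} : Set (ι → F)))
    (h2 : (e : Matrix ι ι F) *ᵥ y ∈ Submodule.span F ({x, y} : Set (ι → F)))
    (hmove : ∃ t ∈ lineImg K g v, (e : Matrix ι ι F) *ᵥ t ∉ lineImg K g v) :
    HasPair H K v := by
  obtain ⟨c1, hc1⟩ := mem_lineImg.mp hx
  obtain ⟨c2, hc2⟩ := mem_lineImg.mp hy
  obtain ⟨hne, hind⟩ := preimage_indep D G Φ hx0 hxy hc1 hc2
  refine pair_of_stable D G Φ hg he hne hind (fun c hc => ?_) hmove
  obtain ⟨a, b, rfl⟩ := Submodule.mem_span_pair.mp hc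
  obtain ⟨a1, b1, e1⟩ := Submodule.mem_span_pair.mp h1
  obtain ⟨a2, b2, e2⟩ := Submodule.mem_span_pair.mp h2
  refine ⟨(a * a1 + b * a2) • c1 + (a * b1 + b * b2) • c2,
    Submodule.mem_span_pair.mpr ⟨_, _, rfl⟩, ?_⟩
  simp only [map_add, map_smul, mulVec_add, mulVec_smul, hc1, hc2, ← e1, ← e2]
  module

variable (hline : ∀ y, lineImg K g v ≠ kline K y)
include hline

/-- Two points of the image on one isotropic line give a pair. -/
theorem line_case {u : ι → F} (hu : G.phi u u = 0) (hu0 : u ≠ 0) {x y : ι → F}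
    (hx : x ∈ lineImg K g v) (hy : y ∈ lineImg K g v) (hxu : x ∈ kline K u) (hyu : y ∈ kline K u)
    (hx0 : x ≠ 0) (hxy : ∀ s : F, y ≠ s • x) : HasPair H K v := by
  obtain ⟨u', wu, Ψ⟩ := exists_frame D G hu hu0
  obtain ⟨e, he, p, hex, hmove⟩ := exists_uMap_moves D G Ψ
    (finrank_lineImg D.hK g (v_ne_zero D G Φ)) (hline u)
  obtain ⟨a, rfl⟩ := hxu
  obtain ⟨b, rfl⟩ := hyu
  exact move_case D G Φ hg he hx hy hx0 hxy
    (by rw [hex, uMap_line D G Ψ]; exact Submodule.subset_span (by simp))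
    (by rw [hex, uMap_line D G Ψ]; exact Submodule.subset_span (by simp)) hmove

/-- Every anisotropic vector of the image has a partner. -/
theorem exists_orth_partner {x : ι → F} (hx : x ∈ lineImg K g v) :
    ∃ y ∈ lineImg K g v, y ≠ 0 ∧ G.phi x y = 0 := by
  haveI : Module.Finite F K :=
    Module.finite_of_finrank_pos (by rw [D.hK.finrank_eq]; exact D.hr.pos)
  set T := lineImg K g v with hT
  let χ : T →ₗ[F] K := G.phi x ∘ₗ T.subtype
  obtain ⟨⟨y, hy⟩, hy', hy0⟩ := Submodule.exists_mem_ne_zero_of_ne_bot (p := LinearMap.ker χ)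
    (fun h0 => by
      have hle : LinearMap.range χ ≤ LinearMap.ker G.theta := by
        rintro _ ⟨t, rfl⟩
        show G.theta (G.phi x t) = 0
        rw [theta_phi D.toSetting G]
        exact image_form D G Φ hg t.2 hx
      have h1 := Submodule.finrank_mono hle
      have h2 := LinearMap.finrank_range_add_finrank_ker χ
      have h3 : LinearMap.ker G.theta ≠ ⊤ := fun h => one_ne_zero' F (by
        exfalso
        letI : Field K := (isField_of D.hK D.one_le).toField
        refine one_ne_zero (G.sep (1 : K) fun k => ?_)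
        exact (h ▸ Submodule.mem_top : k * 1 ∈ LinearMap.ker G.theta))
      have h4 := Submodule.finrank_lt h3
      rw [h0, finrank_bot, add_zero] at h2
      have h5 : Module.finrank F T = r := finrank_lineImg D.hK g (v_ne_zero D G Φ)
      rw [D.hK.finrank_eq] at h4
      omega)
  exact ⟨y, hy, fun h => hy0 (Subtype.ext h), hy'⟩

/-- An orthogonal pair in a plane with a square class containing minus one. -/
theorem hyperbolic_case {v1 v2 z : ι → F} (h11 : G.phi v1 v1 = 0) (h22 : G.phi v2 v2 = 0)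
    (h12 : G.phi v1 v2 ≠ 0) (h1z : G.phi v1 z = 0) (h2z : G.phi v2 z = 0) (hz : G.phi z z ≠ 0)
    (hplane : ∀ t ∈ lineImg K g v, ∃ a b : K, t = ev K v1 a + ev K v2 b)
    (hinj : ∀ t ∈ lineImg K g v, G.phi v2 t = 0 → t = 0) : PairOrRoot D G Φ.hv := by
  classical
  letI : Field K := (isField_of D.hK D.one_le).toField
  haveI : Module.Finite F K :=
    Module.finite_of_finrank_pos (by rw [D.hK.finrank_eq]; exact D.hr.pos)
  haveI : Finite K := Module.finite_of_finite F
  letI : Fintype K := Fintype.ofFinite K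
  have hodd : Odd (Module.finrank F K) := by rw [D.hK.finrank_eq]; exact odd_r D
  have hv10 : v1 ≠ 0 := fun h => h12 (by rw [h, phi_symm D.toSetting G, map_zero])
  set T := lineImg K g v with hT
  obtain ⟨c, hc⟩ : ∃ c, c = G.phi v1 v2 := ⟨_, rfl⟩
  have hc0 : c ≠ 0 := hc ▸ h12
  have hprod : ∀ s ∈ T, ∀ t ∈ T,
      G.phi s t = (G.phi v2 s * G.phi v1 t + G.phi v1 s * G.phi v2 t) * c⁻¹ := by
    intro s hs t ht
    obtain ⟨a, b, rfl⟩ := hplane s hs
    obtain ⟨a', b', rfl⟩ := hplane t ht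
    simp only [phi_add D.toSetting G, map_add, phi_ev_left D.toSetting G, phi_ev D.hK (G.klin _),
      h11, h22, phi_symm D.toSetting G v2 v1, ← hc, mul_zero, add_zero, zero_add]
    field_simp
  let P : T →ₗ[F] K := G.phi v2 ∘ₗ T.subtype
  have hPinj : Function.Injective P := (injective_iff_map_eq_zero _).mpr fun t ht =>
    Subtype.ext (hinj t t.2 ht)
  let eP := LinearEquiv.ofBijective P ⟨hPinj,
    (LinearMap.injective_iff_surjective_of_finrank_eq_finrank
      (by rw [hT, finrank_lineImg D.hK g (v_ne_zero D G Φ), D.hK.finrank_eq])).mp hPinj⟩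
  let Λ : K →ₗ[F] K := G.phi v1 ∘ₗ T.subtype ∘ₗ eP.symm.toLinearMap
  have hP : ∀ a, G.phi v2 (eP.symm a : ι → F) = a := fun a => eP.apply_symm_apply a
  have hΛ : ∀ a, G.phi v1 (eP.symm a : ι → F) = Λ a := fun a => rfl
  obtain ⟨a0, ha0, hΛ0⟩ := exists_ker_of_skew G.theta G.sep D.two hodd
    (Λ := LinearMap.mulLeft F c⁻¹ ∘ₗ Λ) (fun a b => by
      have h := image_form D G Φ hg (eP.symm b).2 (eP.symm a).2
      rw [← theta_phi D.toSetting G, hprod _ (eP.symm a).2 _ (eP.symm b).2, hP, hP, hΛ, hΛ] at h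
      rw [← h]
      congr 1
      simp only [LinearMap.comp_apply, LinearMap.mulLeft_apply]
      ring)
  have hΛ0' : Λ a0 = 0 := by
    simp only [LinearMap.comp_apply, LinearMap.mulLeft_apply] at hΛ0
    exact (mul_eq_zero.mp hΛ0).resolve_left (inv_ne_zero hc0)
  -- one point only on the first line
  by_cases htwo : ∃ a, Λ a = 0 ∧ ∀ s : F, a ≠ s • a0
  · obtain ⟨a, ha, hind⟩ := htwo
    have hmem : ∀ a, Λ a = 0 → (eP.symm a : ι → F) ∈ kline K v1 := fun a ha => by
      obtain ⟨p, q, hpq⟩ := hplane _ (eP.symm a).2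
      have h1 := hΛ a
      rw [ha, hpq, map_add, phi_ev D.hK (G.klin v1), phi_ev D.hK (G.klin v1), h11, mul_zero,
        zero_add, ← hc] at h1
      exact ⟨p, by rw [hpq, (mul_eq_zero.mp h1).resolve_right hc0, map_zero, add_zero]⟩
    refine Or.inl (line_case D G Φ hg hline h11 hv10 (eP.symm a0).2 (eP.symm a).2 (hmem a0 hΛ0')
      (hmem a ha) (fun h => ha0 (by rw [← hP a0, h, map_zero])) fun s hs => hind s ?_)
    have := congrArg (G.phi v2) hs
    rwa [hP, map_smul, hP] at this
  push Not at htwo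
  -- both square classes
  obtain ⟨x', hx', hx'0, hsq⟩ : ∃ x' ∈ T, G.phi x' x' ≠ 0 ∧
      IsSquare (G.phi x' x' * G.phi z z) := by
    obtain ⟨ω, hω, hω'⟩ := exists_nonsquare_outside (E := K) D.two hodd
      (by rw [D.hK.finrank_eq]; exact D.hr.one_lt)
    obtain ⟨ν, hν⟩ : ∃ ν, ν = ω - 1 := ⟨_, rfl⟩
    have hν0 : ν ≠ 0 := fun h => hω' 1 (by rw [map_one]; exact sub_eq_zero.mp (hν ▸ h))
    obtain ⟨a, ha⟩ : ∃ a, a = a0 * ν⁻¹ := ⟨_, rfl⟩
    have hΛa : Λ a ≠ 0 := fun h => by
      obtain ⟨s, hs⟩ := htwo a h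
      have h1 : algebraMap F K s * ν = 1 := by
        refine mul_left_cancel₀ ha0 ?_
        rw [mul_one]
        calc a0 * (algebraMap F K s * ν) = (s • a0) * ν := by rw [Algebra.smul_def]; ring
          _ = a * ν := by rw [hs]
          _ = a0 := by rw [ha]; field_simp
      have hs0 : algebraMap F K s ≠ 0 := left_ne_zero_of_mul (h1.symm ▸ one_ne_zero)
      refine hω' (s⁻¹ + 1) ?_
      have h2 : ν = (algebraMap F K s)⁻¹ := eq_inv_of_mul_eq_one_right h1
      rw [map_add, map_one, map_inv₀, ← h2, hν, sub_add_cancel]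
    have hn1 : G.phi (eP.symm a : ι → F) (eP.symm a : ι → F) = a * Λ a * c⁻¹ * 2 := by
      rw [hprod _ (eP.symm a).2 _ (eP.symm a).2, hP, hΛ]
      ring
    have hn2 : G.phi (eP.symm (a + a0) : ι → F) (eP.symm (a + a0) : ι → F) =
        a * Λ a * c⁻¹ * 2 * ω := by
      rw [hprod _ (eP.symm (a + a0)).2 _ (eP.symm (a + a0)).2, hP, hΛ, map_add, hΛ0', add_zero,
        show ω = 1 + ν by rw [hν]; ring]
      rw [ha]
      field_simp
      ring
    have ha' : a ≠ 0 := fun h => hΛa (by rw [h, map_zero])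
    have hne : a * Λ a * c⁻¹ * 2 ≠ 0 :=
      mul_ne_zero (mul_ne_zero (mul_ne_zero ha' hΛa) (inv_ne_zero hc0)) (twoK D.toSetting)
    have hω0 : ω ≠ 0 := fun h => hω (h ▸ IsSquare.zero)
    rcases exists_square_pair (mul_ne_zero hne hω0) hne hz with h | h | h
    · exfalso
      refine hω ?_
      obtain ⟨s, hs⟩ := h
      refine ⟨s / (a * Λ a * c⁻¹ * 2), ?_⟩
      rw [div_mul_div_comm, ← hs]
      field_simp
      exact (div_self (twoK D.toSetting)).symm
    · exact ⟨_, (eP.symm (a + a0)).2, by rw [hn2]; exact mul_ne_zero hne hω0, by rwa [hn2]⟩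
    · exact ⟨_, (eP.symm a).2, by rw [hn1]; exact hne, by rwa [hn1]⟩
  obtain ⟨y, hy, hy0, hxy⟩ := exists_orth_partner D G Φ hg hline hx'
  have hxz : G.phi x' z = 0 := by
    obtain ⟨a, b, rfl⟩ := hplane x' hx'
    rw [phi_add D.toSetting G, phi_ev_left D.toSetting G, phi_ev_left D.toSetting G, h1z, h2z,
      mul_zero, mul_zero, add_zero]
  have hzy : G.phi z y = 0 := by
    obtain ⟨a, b, rfl⟩ := hplane y hy
    rw [map_add, phi_ev D.hK (G.klin z), phi_ev D.hK (G.klin z), phi_symm D.toSetting G z v1, h1z,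
      phi_symm D.toSetting G z v2, h2z, mul_zero, mul_zero, add_zero]
  obtain ⟨i, hi, -, hix, -, hiy⟩ := exists_involution D G hx'0 hz hxz hsq
  rcases sign_case D G Φ hg hi hx' hy (fun h => hx'0 (by rw [h, map_zero]))
      (fun s hs => hy0 (by
        rw [hs, map_smul, smul_eq_zero] at hxy
        rcases hxy with h | h
        · rw [hs, h, zero_smul]
        · exact absurd h hx'0))
      (s1 := -1) (s2 := 1) (by ring) (one_mul 1) (by rw [hix, neg_one_smul])
      (by rw [hiy y hxy hzy, one_smul]) with h | ⟨h, -⟩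
  · exact h
  · exact absurd (by linear_combination -h) D.two

/-- No image in an anisotropic plane. -/
theorem elliptic_case {x y : ι → F} {n : K} (hn : n ≠ 0) (hxx : G.phi x x = n)
    (hyy : G.phi y y = n) (hxy : G.phi x y = 0) (hneg : ¬ IsSquare (-1 : F))
    (hplane : ∀ t ∈ lineImg K g v, ∃ a b : K, t = ev K x a + ev K y b) : False := by
  classical
  letI : Field K := (isField_of D.hK D.one_le).toField
  haveI : Module.Finite F K :=
    Module.finite_of_finrank_pos (by rw [D.hK.finrank_eq]; exact D.hr.pos)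
  haveI : Finite K := Module.finite_of_finite F
  set T := lineImg K g v with hT
  have hodd : Odd (Module.finrank F K) := by rw [D.hK.finrank_eq]; exact odd_r D
  have hfr : Module.finrank F T = Module.finrank F K := by
    rw [hT, finrank_lineImg D.hK g (v_ne_zero D G Φ), D.hK.finrank_eq]
  haveI : Finite T := Module.finite_of_finite F
  -- a complement
  obtain ⟨μ, hμ⟩ : ∃ μ : K, ∀ t ∈ T, G.phi x t + μ * G.phi y t = 0 → t = 0 := by
    by_contra hc
    push Not at hc
    have hsurj : Function.Surjective fun t : T => -(G.phi x t) * (G.phi y t)⁻¹ := by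
      intro μ
      obtain ⟨t, ht, htμ, ht0⟩ := hc μ
      refine ⟨⟨t, ht⟩, ?_⟩
      have hyt : G.phi y t ≠ 0 := by
        intro h
        rw [h, mul_zero, add_zero] at htμ
        obtain ⟨a, b, rfl⟩ := hplane t ht
        rw [map_add, phi_ev D.hK (G.klin x), phi_ev D.hK (G.klin x), hxx, hxy, mul_zero,
          add_zero] at htμ
        rw [map_add, phi_ev D.hK (G.klin y), phi_ev D.hK (G.klin y), hyy,
          phi_symm D.toSetting G y x, hxy, mul_zero, zero_add] at h
        exact ht0 (by rw [(mul_eq_zero.mp htμ).resolve_right hn,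
          (mul_eq_zero.mp h).resolve_right hn, map_zero, map_zero, add_zero])
      show -(G.phi x t) * (G.phi y t)⁻¹ = μ
      rw [eq_neg_of_add_eq_zero_left htμ, neg_neg, mul_assoc, mul_inv_cancel₀ hyt, mul_one]
    have hcard : Nat.card T = Nat.card K := by
      rw [Module.natCard_eq_pow_finrank (K := F) (V := T),
        Module.natCard_eq_pow_finrank (K := F) (V := K), hfr]
    have hinj := ((Nat.bijective_iff_surjective_and_card _).mpr ⟨hsurj, hcard⟩).1
    obtain ⟨t, ht0⟩ : ∃ t : T, t ≠ 0 := by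
      obtain ⟨t, ht, -, ht0⟩ := hc 0
      exact ⟨⟨t, ht⟩, fun h => ht0 (congrArg Subtype.val h)⟩
    have h2 : (2 : F) • t = t := hinj (by
      show -(G.phi x ((2 : F) • (t : ι → F))) * (G.phi y ((2 : F) • (t : ι → F)))⁻¹ =
        -(G.phi x t) * (G.phi y t)⁻¹
      rw [map_smul, map_smul, Algebra.smul_def, Algebra.smul_def, map_ofNat]
      have := twoK D.toSetting
      field_simp)
    rw [two_smul, add_eq_left] at h2
    exact ht0 h2
  obtain ⟨m, hm⟩ : ∃ m, m = n * (1 + μ * μ) := ⟨_, rfl⟩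
  have hm0 : m ≠ 0 := hm ▸ mul_ne_zero hn fun h => hneg
    (isSquare_of_algebraMap hodd ⟨μ, by rw [map_neg, map_one]; linear_combination -h⟩)
  let P : T →ₗ[F] K := (G.phi x + LinearMap.mulLeft F μ ∘ₗ G.phi y) ∘ₗ T.subtype
  have hPinj : Function.Injective P := (injective_iff_map_eq_zero _).mpr fun t ht =>
    Subtype.ext (hμ t t.2 ht)
  let eP := LinearEquiv.ofBijective P ⟨hPinj,
    (LinearMap.injective_iff_surjective_of_finrank_eq_finrank hfr).mp hPinj⟩
  let Λ : K →ₗ[F] K :=
    (G.phi y - LinearMap.mulLeft F μ ∘ₗ G.phi x) ∘ₗ T.subtype ∘ₗ eP.symm.toLinearMap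
  refine hneg (isSquare_neg_one_of_antiisom G.theta G.sep hodd (inv_ne_zero hm0) (Λ := Λ)
    fun a b => ?_)
  obtain ⟨s, rfl⟩ := eP.surjective a
  obtain ⟨t, rfl⟩ := eP.surjective b
  have h := image_form D G Φ hg t.2 s.2
  rw [← theta_phi D.toSetting G] at h
  rw [← h]
  congr 1
  simp only [Λ, LinearMap.comp_apply, LinearEquiv.coe_coe, LinearEquiv.symm_apply_apply]
  show m⁻¹ * ((G.phi x s + μ * G.phi y s) * (G.phi x t + μ * G.phi y t) +
    (G.phi y s - μ * G.phi x s) * (G.phi y t - μ * G.phi x t)) = _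
  obtain ⟨a, b, ha⟩ := hplane s s.2
  obtain ⟨a', b', hb⟩ := hplane t t.2
  rw [ha, hb]
  simp only [phi_add D.toSetting G, map_add, phi_ev_left D.toSetting G, phi_ev D.hK (G.klin _),
    hxx, hyy, hxy, phi_symm D.toSetting G y x, mul_zero, add_zero, zero_add]
  rw [inv_mul_eq_iff_eq_mul₀ hm0, hm]
  ring

theorem pair_or_root : PairOrRoot D G Φ.hv := by
  classical
  letI : Field K := (isField_of D.hK D.one_le).toField
  haveI : Module.Finite F K :=
    Module.finite_of_finrank_pos (by rw [D.hK.finrank_eq]; exact D.hr.pos)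
  haveI : Finite K := Module.finite_of_finite F
  letI : Fintype K := Fintype.ofFinite K
  have S := D.toSetting
  set T := lineImg K g v with hT
  have hTr : Module.finrank F T = r := by rw [hT, finrank_lineImg D.hK g (v_ne_zero D G Φ)]
  -- an anisotropic vector
  obtain ⟨x, hx, hxx⟩ : ∃ x ∈ T, G.phi x x ≠ 0 := by
    by_contra hc
    push Not at hc
    have hz : ∀ s ∈ T, ∀ t ∈ T, G.phi s t = 0 := fun s hs t ht => by
      by_contra h
      obtain ⟨a, ha, ha0⟩ := exists_aniso S G hs ht h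
      exact ha0 (hc a ha)
    obtain ⟨u, hu, hu0⟩ := Submodule.exists_mem_ne_zero_of_ne_bot (p := T) (fun h => by
      rw [h, finrank_bot] at hTr
      exact D.hr.ne_zero hTr.symm)
    obtain ⟨u', wu, Ψ⟩ := exists_frame D G (hc u hu) hu0
    refine hline u (Submodule.eq_of_le_of_finrank_eq (fun t ht => ?_)
      (by rw [hTr, finrank_kline D.hK hu0]))
    obtain ⟨a, b, rfl⟩ := exists_coords_perp D G Ψ (hz u hu t ht)
    have h := hc _ ht
    simp only [phi_add S G, map_add, phi_ev_left S G, phi_ev D.hK (G.klin _), Ψ.hv, Ψ.hvw,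
      phi_w_v D G Ψ, mul_zero, add_zero, zero_add] at h
    have hb : b = 0 := by
      rcases mul_eq_zero.mp h with h | h
      · exact h
      · exact (mul_eq_zero.mp h).resolve_right Ψ.hw
    rw [hb, map_zero, add_zero]
    exact ⟨a, rfl⟩
  have hx0 : x ≠ 0 := fun h => hxx (by rw [h, map_zero])
  obtain ⟨y, hy, hy0, hxy, hiso⟩ : ∃ y ∈ T, y ≠ 0 ∧ G.phi x y = 0 ∧
      (G.phi y y = 0 → ∀ t ∈ T, G.phi x t = 0 → G.phi t t = 0) := by
    by_cases h : ∃ t ∈ T, G.phi x t = 0 ∧ G.phi t t ≠ 0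
    · obtain ⟨t, ht, hxt, htt⟩ := h
      exact ⟨t, ht, fun h0 => htt (by rw [h0, map_zero]), hxt, fun h0 => absurd h0 htt⟩
    · push Not at h
      obtain ⟨y, hy, hy0, hxy⟩ := exists_orth_partner D G Φ hg hline hx
      exact ⟨y, hy, hy0, hxy, fun _ => h⟩
  have hyind : ∀ s : F, y ≠ s • x := fun s hs => hy0 (by
    rw [hs, map_smul, smul_eq_zero] at hxy
    rcases hxy with h | h
    · rw [hs, h, zero_smul]
    · exact absurd h hxx)
  have hxind : ∀ s : F, x ≠ s • y := fun s hs => hxx (by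
    conv_lhs => arg 2; rw [hs]
    rw [map_smul, hxy, smul_zero])
  by_cases hyy : G.phi y y = 0
  · -- an isotropic vector with a perpendicular one
    obtain ⟨u', wu, Ψ⟩ := exists_frame D G hyy hy0
    obtain ⟨a, b, hab⟩ := exists_coords_perp D G Ψ
      (show G.phi y x = 0 by rw [phi_symm S G, hxy])
    obtain ⟨N, hN⟩ : ∃ N, N = G.phi wu wu := ⟨_, rfl⟩
    have hN0 : N ≠ 0 := hN ▸ Ψ.hw
    have hwx : G.phi wu x = b * N := by
      rw [hab, map_add, phi_ev D.hK (G.klin wu), phi_ev D.hK (G.klin wu), phi_w_v D G Ψ,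
        mul_zero, zero_add, hN]
    have hbN : b * N ≠ 0 := fun h => hxx (by
      have hb := (mul_eq_zero.mp h).resolve_right hN0
      rw [hab, hb, map_zero, add_zero, phi_ev_left S G, phi_ev D.hK (G.klin y), hyy, mul_zero,
        mul_zero])
    obtain ⟨p, hp⟩ : ∃ p, p = -(b * N)⁻¹ := ⟨_, rfl⟩
    have hp0 : p ≠ 0 := hp ▸ neg_ne_zero.mpr (inv_ne_zero hbN)
    obtain ⟨e, he, hex⟩ := exists_uMap D G Ψ p
    have hey : (e : Matrix ι ι F) *ᵥ y = y := by
      have := uMap_line D G Ψ p 1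
      rw [ev_one] at this
      rw [hex, this]
    have hexx : (e : Matrix ι ι F) *ᵥ x = x + y := by
      rw [hex, uMap, show G.phi y x = 0 by rw [phi_symm S G, hxy], hwx, hp]
      simp only [mul_zero, map_zero, smul_zero, add_zero]
      rw [neg_mul, inv_mul_cancel₀ hbN, map_neg, ev_one, sub_neg_eq_add]
    by_cases hmove : ∃ t ∈ T, (e : Matrix ι ι F) *ᵥ t ∉ T
    · refine Or.inl (move_case D G Φ hg he hx hy hx0 hyind ?_ ?_ hmove)
      · rw [hexx]
        exact add_mem (Submodule.subset_span (by simp)) (Submodule.subset_span (by simp))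
      · rw [hey]; exact Submodule.subset_span (by simp)
    push Not at hmove
    by_cases htwo : ∃ t ∈ T, t ∈ kline K y ∧ ∀ s : F, t ≠ s • y
    · obtain ⟨t, ht, htl, hti⟩ := htwo
      exact Or.inl (line_case D G Φ hg hline hyy hy0 hy ht (self_mem_kline y) htl hy0 hti)
    push Not at htwo
    exfalso
    have hsingle : ∀ k : K, ev K y k ∈ T → ∃ s : F, k = s • 1 := fun k hk => by
      obtain ⟨s, hs⟩ := htwo _ hk ⟨k, rfl⟩
      exact ⟨s, ev_injective D.hK hy0 (by rw [hs, map_smul, ev_one])⟩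
    set Tk := T ⊓ LinearMap.ker (G.phi y) with hTk
    have hδ : ∀ t ∈ T, ∃ s : F, G.phi y t = s • (p * p * N)⁻¹ := by
      intro t ht
      have h1 := hmove _ (hmove t ht)
      have h2 : ev K y (p * p * (N * G.phi y t)) ∈ T := by
        have h3 := neg_mem (add_mem (sub_mem h1 (add_mem (hmove t ht) (hmove t ht))) ht)
        convert h3 using 1
        rw [hex, hex, uMap_add D G Ψ, uMap, uMap, ← hN]
        simp only [add_mul, mul_add, map_add, smul_add]
        have e1 := congrArg (ev K y) (half_two S (p * p * (N * G.phi y t)))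
        rw [map_add] at e1
        linear_combination (norm := module) -e1
      obtain ⟨s, hs⟩ := hsingle _ h2
      refine ⟨s, ?_⟩
      rw [← mul_assoc] at hs
      have hne : p * p * N ≠ 0 := mul_ne_zero (mul_ne_zero hp0 hp0) hN0
      refine mul_left_cancel₀ hne ?_
      rw [hs, mul_smul_comm, mul_inv_cancel₀ hne]
    have hTk1 : r ≤ Module.finrank F Tk + 1 := by
      let χ : T →ₗ[F] K := G.phi y ∘ₗ T.subtype
      have h1 : LinearMap.range χ ≤ Submodule.span F {(p * p * N)⁻¹} := by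
        rintro _ ⟨t, rfl⟩
        obtain ⟨s, hs⟩ := hδ t t.2
        exact Submodule.mem_span_singleton.mpr ⟨s, hs.symm⟩
      have h2 := Submodule.finrank_mono h1
      have h3 : Module.finrank F (Submodule.span F {(p * p * N)⁻¹}) ≤ 1 :=
        (finrank_span_le_card _).trans (by simp)
      have h4 := LinearMap.finrank_range_add_finrank_ker χ
      have h5 : Module.finrank F (LinearMap.ker χ) = Module.finrank F Tk := by
        have h6 : (LinearMap.ker χ).map T.subtype = Tk := by
          ext t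
          constructor
          · rintro ⟨t, ht, rfl⟩; exact ⟨t.2, ht⟩
          · rintro ⟨ht, ht'⟩; exact ⟨⟨t, ht⟩, ht', rfl⟩
        rw [← h6, Submodule.finrank_map_subtype_eq]
      omega
    have hTk2 : Module.finrank F Tk ≤ 2 := by
      let χ : Tk →ₗ[F] K := G.phi wu ∘ₗ Tk.subtype
      have h1 : LinearMap.range χ ≤ Submodule.span F {p⁻¹} := by
        rintro _ ⟨⟨t, ht, ht'⟩, rfl⟩
        have ht0 : G.phi y t = 0 := ht'
        have h2 := sub_mem ht (hmove t ht)
        rw [hex, uMap, ht0] at h2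
        simp only [mul_zero, map_zero, smul_zero, add_zero, sub_sub_cancel] at h2
        obtain ⟨s, hs⟩ := hsingle _ h2
        refine Submodule.mem_span_singleton.mpr ⟨s, mul_left_cancel₀ hp0 ?_⟩
        rw [mul_smul_comm, mul_inv_cancel₀ hp0, ← hs]
        rfl
      have h2 : LinearMap.ker χ ≤ Submodule.span F {(⟨y, hy, hyy⟩ : Tk)} := by
        rintro ⟨t, ht, ht'⟩ hw
        obtain ⟨k, hk⟩ := mem_line_of_zero D G Ψ ht' hw
        obtain ⟨s, hs⟩ := hsingle k (hk.symm ▸ ht)
        exact Submodule.mem_span_singleton.mpr ⟨s, Subtype.ext (by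
          show s • y = t
          rw [← hk, hs, map_smul, ev_one])⟩
      have h3 := Submodule.finrank_mono h1
      have h4 := Submodule.finrank_mono h2
      have h5 : Module.finrank F (Submodule.span F {p⁻¹}) ≤ 1 :=
        (finrank_span_le_card _).trans (by simp)
      have h6 : Module.finrank F (Submodule.span F {(⟨y, hy, hyy⟩ : Tk)}) ≤ 1 :=
        (finrank_span_le_card _).trans (by simp)
      have h7 := LinearMap.finrank_range_add_finrank_ker χ
      omega
    -- a vector pairing with the isotropic one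
    obtain ⟨t, ht, htδ⟩ : ∃ t ∈ T, G.phi y t ≠ 0 := by
      by_contra hc
      push Not at hc
      have h1 : Tk = T := inf_eq_left.mpr hc
      rw [h1, hTr] at hTk2
      have := D.three
      omega
    obtain ⟨δ, hδe⟩ : ∃ δ, δ = G.phi y t := ⟨_, rfl⟩
    obtain ⟨W, hW⟩ : ∃ W, W = G.phi wu t := ⟨_, rfl⟩
    have hspan : Submodule.span F ({x, y} : Set (ι → F)) = Tk := by
      refine Submodule.eq_of_le_of_finrank_le (Submodule.span_le.mpr ?_) ?_
      · rintro z (rfl | rfl)
        · exact ⟨hx, show G.phi y _ = 0 by rw [phi_symm S G, hxy]⟩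
        · exact ⟨hy, hyy⟩
      · have hli : LinearIndependent F ![x, y] :=
          (LinearIndependent.pair_iff' hx0).mpr fun m hm => hyind m hm.symm
        have h1 := finrank_span_eq_card hli
        rw [Fintype.card_fin, Matrix.range_cons, Matrix.range_cons, Matrix.range_empty,
          Set.union_empty, Set.singleton_union] at h1
        omega
    have hdT : (e : Matrix ι ι F) *ᵥ t - t ∈ Tk := ⟨sub_mem (hmove t ht) ht,
      show G.phi y _ = 0 by rw [map_sub, hex, phi_v_uMap D G Ψ, sub_self]⟩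
    obtain ⟨s1, s2, hd⟩ := Submodule.mem_span_pair.mp (hspan ▸ hdT)
    obtain ⟨H2, hH2⟩ : ∃ H2, H2 = algebraMap F K (2 : F)⁻¹ := ⟨_, rfl⟩
    have hP : p * (b * N) + 1 = 0 := by rw [hp, neg_mul, inv_mul_cancel₀ hbN, neg_add_cancel]
    have hwy : G.phi wu y = 0 := phi_w_v D G Ψ
    have hu'x : G.phi u' x = a := by
      rw [hab, map_add, phi_ev D.hK (G.klin u'), phi_ev D.hK (G.klin u'), phi_v'_v D G Ψ, Ψ.hv'w,
        mul_one, mul_zero, add_zero]
    have e1 : p * δ * N = algebraMap F K s1 * (b * N) := by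
      have h1 := congrArg (G.phi wu) hd
      rw [map_add, map_smul, map_smul, hwx, hwy, smul_zero, add_zero, Algebra.smul_def, map_sub,
        hex, phi_w_uMap D G Ψ, add_sub_cancel_left, ← hN, ← hδe] at h1
      exact h1.symm
    have e2 : -(p * W + H2 * (p * p * (N * δ))) =
        algebraMap F K s1 * a + algebraMap F K s2 := by
      have h1 := congrArg (G.phi u') hd
      rw [map_add, map_smul, map_smul, hu'x, phi_v'_v D G Ψ, Algebra.smul_def, Algebra.smul_def,
        mul_one, map_sub, hex, uMap, map_sub, map_add, phi_ev D.hK (G.klin u'),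
        phi_ev D.hK (G.klin u'), Ψ.hv'w, phi_v'_v D G Ψ, mul_zero, add_zero, mul_one,
        ← hN, ← hδe, ← hW, Algebra.smul_def, ← hH2] at h1
      rw [h1]
      ring
    obtain ⟨c, hc⟩ : ∃ c : F, c = s2 - (2 : F)⁻¹ * s1 := ⟨_, rfl⟩
    have hxxe : G.phi x x = b * b * N := by
      rw [hab, phi_add S G, map_add, map_add, phi_ev_left S G, phi_ev_left S G, phi_ev_left S G,
        phi_ev_left S G, phi_ev D.hK (G.klin _), phi_ev D.hK (G.klin _), phi_ev D.hK (G.klin _),
        phi_ev D.hK (G.klin _), hyy, Ψ.hvw, hwy, ← hN]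
      ring
    have hxt : G.phi x t = c • G.phi x x := by
      have h1 : G.phi x t = a * δ + b * W := by
        rw [hab, phi_add S G, phi_ev_left S G, phi_ev_left S G, hδe, hW]
      rw [h1, hxxe, Algebra.smul_def, hc, map_sub, map_mul, ← hH2]
      linear_combination (-((a + H2) * b)) * e1 + (b * b * N) * e2 +
        ((a + H2) * δ + b * W + H2 * δ * (p * (b * N) + 1 - 2)) * hP
    have ht' : t - c • x ∈ T := sub_mem ht (T.smul_mem c hx)
    have hxt' : G.phi x (t - c • x) = 0 := by rw [map_sub, map_smul, hxt, sub_self]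
    have hyt' : G.phi y (t - c • x) = δ := by
      rw [map_sub, map_smul, phi_symm S G y x, hxy, smul_zero, sub_zero, hδe]
    have h1 := hiso hyy _ ht' hxt'
    have h2 := hiso hyy _ (add_mem hy ht') (by rw [map_add, hxy, hxt', add_zero])
    rw [norm_add S G, hyy, hyt', h1] at h2
    exact htδ (hδe ▸ (mul_eq_zero.mp (show (2 : K) * δ = 0 by linear_combination h2)).resolve_left
      (twoK S))
  -- the third axis
  set X := LinearMap.ker (G.phi x) ⊓ LinearMap.ker (G.phi y) with hX
  let Ω : K × K × X →ₗ[F] (ι → F) :=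
    ev K x ∘ₗ LinearMap.fst F K (K × X) + ev K y ∘ₗ LinearMap.fst F K X ∘ₗ LinearMap.snd F K (K × X) +
      X.subtype ∘ₗ LinearMap.snd F K X ∘ₗ LinearMap.snd F K (K × X)
  have hΩ : ∀ a b (c : X), Ω (a, b, c) = ev K x a + ev K y b + c := fun a b c => rfl
  have hΩinj : Function.Injective Ω := by
    rw [injective_iff_map_eq_zero]
    rintro ⟨a, b, c⟩ h
    rw [hΩ] at h
    have h1 := congrArg (G.phi x) h
    have h2 := congrArg (G.phi y) h
    rw [map_add, map_add, phi_ev D.hK (G.klin x), phi_ev D.hK (G.klin x), hxy, mul_zero, add_zero,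
      show G.phi x c = 0 from c.2.1, add_zero, map_zero] at h1
    rw [map_add, map_add, phi_ev D.hK (G.klin y), phi_ev D.hK (G.klin y), phi_symm S G y x, hxy,
      mul_zero, zero_add, show G.phi y c = 0 from c.2.2, add_zero, map_zero] at h2
    rw [(mul_eq_zero.mp h1).resolve_right hxx, (mul_eq_zero.mp h2).resolve_right hyy] at h ⊢
    rw [map_zero, map_zero, zero_add, zero_add] at h
    rw [show c = 0 from Subtype.ext h]
    rfl
  have hXge : r ≤ Module.finrank F X := by
    have h1 := finrank_ker_ge S (G.phi x)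
    have h2 := finrank_ker_inf_ge S (LinearMap.ker (G.phi x)) (G.phi y)
    rw [← hX] at h2
    have := D.card_eq
    omega
  have hXle : Module.finrank F X = r := by
    have h1 := LinearMap.finrank_le_finrank_of_injective hΩinj
    rw [Module.finrank_prod, Module.finrank_prod, D.hK.finrank_eq,
      Module.finrank_fintype_fun_eq_card, D.card_eq] at h1
    omega
  have hfrΩ : Module.finrank F (K × K × X) = Module.finrank F (ι → F) := by
    rw [Module.finrank_prod, Module.finrank_prod, D.hK.finrank_eq, hXle,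
      Module.finrank_fintype_fun_eq_card, D.card_eq]
    omega
  have hΩsurj := (LinearMap.injective_iff_surjective_of_finrank_eq_finrank hfrΩ).mp hΩinj
  obtain ⟨z, hzX, hz0⟩ := Submodule.exists_mem_ne_zero_of_ne_bot (p := X) (fun h => by
    rw [h, finrank_bot] at hXle
    exact D.hr.ne_zero hXle.symm)
  have hxz : G.phi x z = 0 := hzX.1
  have hyz : G.phi y z = 0 := hzX.2
  have hXline : X = kline K z := by
    refine (Submodule.eq_of_le_of_finrank_eq ?_ (by rw [finrank_kline D.hK hz0, hXle])).symm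
    rintro _ ⟨k, rfl⟩
    exact ⟨stable_ker S G x k hxz, stable_ker S G y k hyz⟩
  have hzz : G.phi z z ≠ 0 := by
    intro h
    refine hz0 (phi_eq_zero S G fun t => ?_)
    obtain ⟨⟨a, b, c⟩, rfl⟩ := hΩsurj t
    obtain ⟨k, hk⟩ : (c : ι → F) ∈ kline K z := hXline ▸ c.2
    rw [hΩ, ← hk, map_add, map_add, phi_ev D.hK (G.klin z), phi_ev D.hK (G.klin z),
      phi_ev D.hK (G.klin z), phi_symm S G z x, hxz, phi_symm S G z y, hyz, h]
    simp
  rcases exists_square_pair hxx hyy hzz with hsq | hsq | hsq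
  rotate_left
  · obtain ⟨i, hi, -, hix, -, hiy⟩ := exists_involution D G hxx hzz hxz hsq
    rcases sign_case D G Φ hg hi hx hy hx0 hyind (s1 := -1) (s2 := 1) (by ring) (one_mul 1)
      (by rw [hix, neg_one_smul])
      (by rw [hiy y hxy (by rw [phi_symm S G, hyz]), one_smul]) with h | ⟨h, -⟩
    · exact h
    · exact absurd (by linear_combination -h) D.two
  · obtain ⟨i, hi, -, hiy, -, hix⟩ := exists_involution D G hyy hzz hyz hsq
    rcases sign_case D G Φ hg hi hy hx hy0 hxind (s1 := -1) (s2 := 1) (by ring) (one_mul 1)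
      (by rw [hiy, neg_one_smul])
      (by rw [hix x (by rw [phi_symm S G, hxy]) (by rw [phi_symm S G, hxz]), one_smul])
      with h | ⟨h, -⟩
    · exact h
    · exact absurd (by linear_combination -h) D.two
  obtain ⟨i, hi, hic, hix, hiy, hiz⟩ := exists_involution D G hxx hyy hxy hsq
  rcases sign_case D G Φ hg hi hx hy hx0 hyind (s1 := -1) (s2 := -1) (by ring) (by ring)
    (by rw [hix, neg_one_smul]) (by rw [hiy, neg_one_smul]) with h | ⟨-, hall⟩
  · exact h
  have hTz : ∀ t ∈ T, G.phi z t = 0 := by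
    intro t ht
    have h1 := phi_comm D G hi hic z t
    rw [hiz z hxz hyz, hall t ht, neg_one_smul, map_neg] at h1
    have h2 : (2 : K) * G.phi z t = 0 := by linear_combination -h1
    exact (mul_eq_zero.mp h2).resolve_left (twoK S)
  obtain ⟨s, hs⟩ := hsq
  have hs0 : s ≠ 0 := left_ne_zero_of_mul (hs ▸ mul_ne_zero hxx hyy)
  obtain ⟨k, hk⟩ : ∃ k, k = s * (G.phi y y)⁻¹ := ⟨_, rfl⟩
  have hk0 : k ≠ 0 := hk ▸ mul_ne_zero hs0 (inv_ne_zero hyy)
  obtain ⟨y', hy'⟩ : ∃ y', y' = ev K y k := ⟨_, rfl⟩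
  have hxy' : G.phi x y' = 0 := by rw [hy', phi_ev D.hK (G.klin x), hxy, mul_zero]
  have hy'z : G.phi y' z = 0 := by rw [hy', phi_ev_left S G, hyz, mul_zero]
  have hy'n : G.phi y' y' = G.phi x x := by
    rw [hy', phi_ev_left S G, phi_ev D.hK (G.klin y), hk]
    field_simp
    linear_combination -hs
  have hplane : ∀ t ∈ T, ∃ a b : K, t = ev K x a + ev K y' b := by
    intro t ht
    obtain ⟨⟨a, b, c⟩, rfl⟩ := hΩsurj t
    obtain ⟨m, hm⟩ : (c : ι → F) ∈ kline K z := hXline ▸ c.2
    have h1 := hTz _ ht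
    rw [hΩ, ← hm, map_add, map_add, phi_ev D.hK (G.klin z), phi_ev D.hK (G.klin z),
      phi_ev D.hK (G.klin z), phi_symm S G z x, hxz, phi_symm S G z y, hyz, mul_zero, mul_zero,
      zero_add, zero_add] at h1
    refine ⟨a, b * k⁻¹, ?_⟩
    rw [hΩ, ← hm, (mul_eq_zero.mp h1).resolve_right hzz, map_zero, add_zero, hy',
      ev_apply (ev K y k), ← ev_mul, mul_assoc, inv_mul_cancel₀ hk0, mul_one]
  by_cases hneg : IsSquare (-1 : F)
  swap
  · exact absurd (elliptic_case D G Φ hg hline hxx rfl hy'n hxy' hneg hplane) id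
  obtain ⟨i0, hi0⟩ := hneg
  obtain ⟨j, hj⟩ : ∃ j : K, j = algebraMap F K i0 := ⟨_, rfl⟩
  have hjj : j * j = -1 := by rw [hj, ← map_mul, ← hi0, map_neg, map_one]
  obtain ⟨v1, hv1⟩ : ∃ v1, v1 = x + ev K y' j := ⟨_, rfl⟩
  obtain ⟨v2, hv2⟩ : ∃ v2, v2 = x - ev K y' j := ⟨_, rfl⟩
  have h11 : G.phi v1 v1 = 0 := by
    rw [hv1, norm_add S G, phi_ev D.hK (G.klin x), hxy', phi_ev_left S G,
      phi_ev D.hK (G.klin y'), hy'n]
    linear_combination (G.phi x x) * hjj
  have h22 : G.phi v2 v2 = 0 := by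
    rw [hv2, phi_sub S G, map_sub, map_sub, phi_ev_left S G, phi_ev_left S G,
      phi_ev D.hK (G.klin x), phi_ev D.hK (G.klin y'), phi_symm S G y' x, hxy', hy'n]
    linear_combination (G.phi x x) * hjj
  have h12v : G.phi v1 v2 = 2 * G.phi x x := by
    rw [hv1, hv2, phi_add S G, map_sub, map_sub, phi_ev_left S G, phi_ev_left S G,
      phi_ev D.hK (G.klin x), phi_ev D.hK (G.klin y'), phi_symm S G y' x, hxy', hy'n]
    linear_combination (-(G.phi x x)) * hjj
  have h12 : G.phi v1 v2 ≠ 0 := by rw [h12v]; exact mul_ne_zero (twoK S) hxx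
  have h1z : G.phi v1 z = 0 := by
    rw [hv1, phi_add S G, hxz, phi_ev_left S G, hy'z, mul_zero, add_zero]
  have h2z : G.phi v2 z = 0 := by
    rw [hv2, phi_sub S G, hxz, phi_ev_left S G, hy'z, mul_zero, sub_zero]
  have hplane' : ∀ t ∈ T, ∃ a b : K, t = ev K v1 a + ev K v2 b := by
    intro t ht
    obtain ⟨a, b, rfl⟩ := hplane t ht
    obtain ⟨p, hp⟩ : ∃ p, p = (a + b * (-j)) * (2 : K)⁻¹ := ⟨_, rfl⟩
    obtain ⟨q, hq⟩ : ∃ q, q = (a - b * (-j)) * (2 : K)⁻¹ := ⟨_, rfl⟩
    refine ⟨p, q, ?_⟩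
    have e1 : a = p + q := by rw [hp, hq]; have := twoK S; field_simp; ring
    have e2 : b = p * j - q * j := by
      rw [hp, hq]
      have := twoK S
      field_simp
      linear_combination (2 * b) * hjj
    rw [e1, e2, hv1, hv2, ev_apply (x + _) p, ev_apply (x - _) q, mulVec_add, mulVec_sub,
      ← ev_mul, ← ev_mul, map_add, map_sub]
    simp only [ev_apply]
    abel
  by_cases hinj : ∀ t ∈ T, G.phi v2 t = 0 → t = 0
  · exact hyperbolic_case D G Φ hg hline h11 h22 h12 h1z h2z hzz hplane' hinj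
  by_cases hinj' : ∀ t ∈ T, G.phi v1 t = 0 → t = 0
  · exact hyperbolic_case D G Φ hg hline h22 h11 (by rw [phi_symm S G]; exact h12) h2z h1z hzz
      (fun t ht => by
        obtain ⟨a, b, rfl⟩ := hplane' t ht
        exact ⟨b, a, add_comm _ _⟩) hinj'
  -- a point on each line
  push Not at hinj hinj'
  obtain ⟨t2, ht2, hA, ht20⟩ := hinj
  obtain ⟨t1, ht1, hB, ht10⟩ := hinj'
  obtain ⟨a1, b1, h1⟩ := hplane' t2 ht2
  obtain ⟨a2, b2, h2⟩ := hplane' t1 ht1
  have ha1 : a1 = 0 := by
    rw [h1, map_add, phi_ev D.hK (G.klin v2), phi_ev D.hK (G.klin v2), h22,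
      phi_symm S G v2 v1, mul_zero, add_zero] at hA
    exact (mul_eq_zero.mp hA).resolve_right h12
  have hb2 : b2 = 0 := by
    rw [h2, map_add, phi_ev D.hK (G.klin v1), phi_ev D.hK (G.klin v1), h11, mul_zero,
      zero_add] at hB
    exact (mul_eq_zero.mp hB).resolve_right h12
  rw [ha1, map_zero, zero_add] at h1
  rw [hb2, map_zero, add_zero] at h2
  have hb1 : b1 ≠ 0 := fun h => ht20 (by rw [h1, h, map_zero])
  have ha2 : a2 ≠ 0 := fun h => ht10 (by rw [h2, h, map_zero])
  obtain ⟨t0, ht0'⟩ : ∃ t0 : F, ¬ IsSquare t0 := by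
    haveI : Fintype F := Fintype.ofFinite F
    exact FiniteField.exists_nonsquare fun h => D.two (by
      have := CharP.cast_eq_zero F (ringChar F)
      rw [h] at this
      exact_mod_cast this)
  have ht00 : t0 ≠ 0 := fun h => ht0' (h ▸ IsSquare.zero)
  obtain ⟨c, hc⟩ : ∃ c, c = 2 * (a2 * b1 * G.phi v1 v2) := ⟨_, rfl⟩
  have hc0 : c ≠ 0 := hc ▸ mul_ne_zero (twoK S) (mul_ne_zero (mul_ne_zero ha2 hb1) h12)
  have hnorm : ∀ q : F, G.phi (t1 + q • t2) (t1 + q • t2) = algebraMap F K q * c := fun q => by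
    rw [norm_add S G, map_smul, phi_symm S G (q • t2) (q • t2), map_smul,
      phi_symm S G (q • t2) t2, map_smul, h1, h2]
    simp only [phi_ev_left S G, phi_ev D.hK (G.klin _), h11, h22, mul_zero, smul_zero, add_zero,
      zero_add, Algebra.smul_def]
    rw [hc]; ring
  obtain ⟨q, hq0, hq⟩ : ∃ q : F, q ≠ 0 ∧ IsSquare (algebraMap F K q * c * G.phi z z) := by
    rcases exists_square_pair (mul_ne_zero ((map_ne_zero (algebraMap F K)).mpr ht00) hc0) hc0 hzz
      with h | h | h
    · exfalso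
      refine ht0' (isSquare_of_algebraMap (E := K) (by rw [D.hK.finrank_eq]; exact odd_r D) ?_)
      obtain ⟨m, hm⟩ := h
      exact ⟨m / c, by field_simp; linear_combination hm⟩
    · exact ⟨t0, ht00, h⟩
    · exact ⟨1, one_ne_zero, by rwa [map_one, one_mul]⟩
  obtain ⟨x', hx'⟩ : ∃ x', x' = t1 + q • t2 := ⟨_, rfl⟩
  obtain ⟨x'', hx''⟩ : ∃ x'', x'' = t1 - q • t2 := ⟨_, rfl⟩
  have hx'n : G.phi x' x' ≠ 0 := by
    rw [hx', hnorm]; exact mul_ne_zero ((map_ne_zero _).mpr hq0) hc0
  have hzero1 : G.phi t1 t1 = 0 := by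
    rw [h2, phi_ev_left S G, phi_ev D.hK (G.klin v1), h11, mul_zero, mul_zero]
  have hzero2 : G.phi t2 t2 = 0 := by
    rw [h1, phi_ev_left S G, phi_ev D.hK (G.klin v2), h22, mul_zero, mul_zero]
  have horth : G.phi x' x'' = 0 := by
    rw [hx', hx'', phi_add S G, map_sub, map_sub, map_smul, map_smul, hzero1,
      phi_symm S G (q • t2) t1, phi_symm S G (q • t2) t2, map_smul, map_smul, hzero2]
    simp
  have hzt1 : G.phi z t1 = 0 := hTz t1 ht1
  have hzt2 : G.phi z t2 = 0 := hTz t2 ht2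
  have hx'z : G.phi x' z = 0 := by
    rw [phi_symm S G, hx', map_add, map_smul, hzt1, hzt2, smul_zero, add_zero]
  have hx''z : G.phi z x'' = 0 := by
    rw [hx'', map_sub, map_smul, hzt1, hzt2, smul_zero, sub_zero]
  obtain ⟨i2, hi2, -, hi2x, -, hi2y⟩ := exists_involution D G hx'n hzz hx'z
    (by rwa [hx', hnorm])
  rcases sign_case D G Φ hg hi2 (x := x') (y := x'')
    (hx' ▸ add_mem ht1 (T.smul_mem q ht2)) (hx'' ▸ sub_mem ht1 (T.smul_mem q ht2))
    (fun h => hx'n (by rw [h, map_zero]))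
    (fun m hm => by
      have h3 := congrArg (G.phi x') hm
      rw [horth, map_smul, eq_comm, smul_eq_zero] at h3
      have hm0 := h3.resolve_right hx'n
      rw [hm0, zero_smul, hx'', sub_eq_zero] at hm
      have h4 := congrArg (G.phi v2) hm
      rw [map_smul, hA, smul_zero, h2, phi_ev D.hK (G.klin v2), phi_symm S G v2 v1] at h4
      exact mul_ne_zero ha2 h12 h4)
    (s1 := -1) (s2 := 1) (by ring) (one_mul 1) (by rw [hi2x, neg_one_smul])
    (by rw [hi2y x'' horth hx''z, one_smul]) with h | ⟨h, -⟩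
  · exact h
  · exact absurd (by linear_combination -h) D.two

end Cfsg.Agent.ExtFieldMax.Orth.Three
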