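import Mathlib.GroupTheory.Transfer
import Mathlib.GroupTheory.PGroup
import Mathlib.GroupTheory.Nilpotent
import Mathlib.Tactic

/-!
A noncyclic elementary abelian subgroup meeting no other conjugate is everything (helper98).
-/

set_option autoImplicit false

namespace Cfsg.Agent.ExtFieldMax.Orth.Three

open Finset

/-- Fixed-point-free action by two commuting elements of prime order forces exponent `p`. -/
theorem pow_eq_one_of_fixed_free {Z : Type*} [CommGroup Z] {p : ℕ} (hp : p.Prime)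
    (σ τ : Z ≃* Z) (hσ : σ ^ p = 1) (hτ : τ ^ p = 1)
    (hcomm : σ * τ = τ * σ)
    (hfix : ∀ i : ℕ, ∀ z, (σ * τ ^ i) z = z → z = 1) (hfix' : ∀ z, τ z = z → z = 1) (z : Z) :
    z ^ p = 1 := by
  have horb : ∀ (α : Z ≃* Z), α ^ p = 1 → (∀ z, α z = z → z = 1) → ∀ z,
      ∏ i ∈ range p, (α ^ i) z = 1 := by
    intro α hα hf z
    refine hf _ ?_
    rw [map_prod]
    have h1 : ∀ i, α ((α ^ i) z) = (α ^ (i + 1)) z := fun i => by
      rw [pow_succ']; rfl
    simp only [h1]
    have h2 := prod_range_succ' (fun i => (α ^ i) z) p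
    have h3 := prod_range_succ (fun i => (α ^ i) z) p
    rw [h2] at h3
    simp only [hα, pow_zero, MulAut.one_apply] at h3
    exact mul_right_cancel h3
  have hlines : ∏ j ∈ range p, ∏ i ∈ range p, ((σ * τ ^ j) ^ i) z = 1 :=
    prod_eq_one fun j _ => horb _ (by
      rw [(Commute.pow_right hcomm j).mul_pow, hσ, ← pow_mul, mul_comm j, pow_mul, hτ, one_pow,
        one_mul]) (hfix j) z
  rw [prod_comm] at hlines
  have hpow : ∀ i j : ℕ, ((σ * τ ^ j) ^ i) z = (σ ^ i) ((τ ^ (i * j % p)) z) := fun i j => by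
    rw [(Commute.pow_right hcomm j).mul_pow, ← pow_mul, mul_comm j, ← pow_eq_pow_mod _ hτ]
    rfl
  have hrow : ∀ i ∈ range p, i ≠ 0 → ∏ j ∈ range p, ((σ * τ ^ j) ^ i) z = 1 := by
    intro i hi hi0
    simp only [hpow, ← map_prod]
    have hperm : ∏ j ∈ range p, (τ ^ (i * j % p)) z = ∏ j ∈ range p, (τ ^ j) z := by
      refine prod_nbij (fun j => i * j % p) (fun j _ => mem_range.mpr (Nat.mod_lt _ hp.pos))
        (fun a ha b hb hab => ?_) ?_ (fun j _ => rfl)
      · have ha' := mem_range.mp ha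
        have hb' := mem_range.mp hb
        have hco : Nat.Coprime i p := (Nat.coprime_comm.mp ((hp.coprime_iff_not_dvd).mpr fun h =>
          absurd (Nat.le_of_dvd (Nat.pos_of_ne_zero hi0) h) (by have := mem_range.mp hi; omega)))
        have h : i * a ≡ i * b [MOD p] := hab
        exact Nat.ModEq.eq_of_lt_of_lt (Nat.ModEq.cancel_left_of_coprime
          (by rw [Nat.gcd_comm]; exact hco) h) ha' hb'
      · intro k hk
        have hk' := mem_range.mp hk
        have hmaps : Set.MapsTo (fun j => i * j % p) (range p : Set ℕ) (range p) := fun j _ =>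
          mem_range.mpr (Nat.mod_lt _ hp.pos)
        refine Finset.surjOn_of_injOn_of_card_le _ hmaps ?_ le_rfl (mem_coe.mpr hk)
        intro a ha b hb hab
        have hco : Nat.Coprime i p := (Nat.coprime_comm.mp ((hp.coprime_iff_not_dvd).mpr fun h =>
          absurd (Nat.le_of_dvd (Nat.pos_of_ne_zero hi0) h) (by have := mem_range.mp hi; omega)))
        exact Nat.ModEq.eq_of_lt_of_lt (Nat.ModEq.cancel_left_of_coprime
          (by rw [Nat.gcd_comm]; exact hco) (hab : i * a ≡ i * b [MOD p])) (mem_range.mp ha)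
          (mem_range.mp hb)
    rw [hperm, horb τ hτ hfix' z, map_one]
  rw [prod_eq_single 0 hrow (fun h => absurd (mem_range.mpr hp.pos) h)] at hlines
  simpa using hlines

/-- An elementary abelian self-normalising subgroup with two elements whose combinations have their
centralisers inside it is everything. -/
theorem eq_top_of_selfnormalizing {P : Type*} [Group P] [Finite P] {U : Subgroup P}
    {p : ℕ} (hp : p.Prime) (hcomm : ∀ a ∈ U, ∀ b ∈ U, a * b = b * a) (hexp : ∀ a ∈ U, a ^ p = 1)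
    {u v : P} (hu : u ∈ U) (hv : v ∈ U)
    (hnorm : ∀ g, (∀ a, a ∈ U ↔ g * a * g⁻¹ ∈ U) → g ∈ U)
    (hcv : ∀ g, g * v = v * g → g ∈ U) (hcu : ∀ (i : ℕ) g, g * (u * v ^ i) = u * v ^ i * g → g ∈ U) :
    U = ⊤ := by
  classical
  haveI := Fact.mk hp
  have hUp : IsPGroup p U := fun a => ⟨1, Subtype.ext (by simpa using hexp a a.2)⟩
  -- it is a Sylow subgroup
  obtain ⟨Q, hQ⟩ := hUp.exists_le_sylow
  have hQU : (Q : Subgroup P) = U := by
    by_contra hne
    haveI : Group.IsNilpotent Q := Q.isPGroup'.isNilpotent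
    have hnc : NormalizerCondition Q := normalizerCondition_of_isNilpotent
    have hlt : U.subgroupOf Q < ⊤ := lt_top_iff_ne_top.mpr fun h =>
      hne (le_antisymm (fun x hx => by
        have h1 : (⟨x, hx⟩ : Q) ∈ U.subgroupOf Q := h ▸ Subgroup.mem_top _
        exact Subgroup.mem_subgroupOf.mp h1) hQ)
    obtain ⟨g, hg, hgU⟩ := SetLike.exists_of_lt (hnc _ hlt)
    refine hgU (hnorm g fun a => ⟨fun ha => ?_, fun ha => ?_⟩)
    · exact (Subgroup.mem_normalizer_iff.mp hg ⟨a, hQ ha⟩).mp ha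
    · have haQ : a ∈ (Q : Subgroup P) := by
        have h1 := mul_mem (mul_mem (inv_mem g.2) (hQ ha)) g.2
        rwa [show (g : P)⁻¹ * ((g : P) * a * (g : P)⁻¹) * (g : P) = a by group] at h1
      exact (Subgroup.mem_normalizer_iff.mp hg ⟨a, haQ⟩).mpr ha
  have hN : Subgroup.normalizer ((Q : Subgroup P) : Set P) ≤
      Subgroup.centralizer ((Q : Subgroup P) : Set P) := by
    intro g hg
    rw [hQU] at hg ⊢
    by_cases hgU : g ∈ U
    · exact Subgroup.mem_centralizer_iff.mpr fun a ha => hcomm a ha g hgU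
    · exact absurd (hnorm g fun a => Subgroup.mem_normalizer_iff.mp hg a) hgU
  set N := (MonoidHom.transferSylow Q hN).ker with hNdef
  have hpN : ¬ p ∣ Nat.card N := MonoidHom.not_dvd_card_ker_transferSylow Q hN
  have hcomp := MonoidHom.ker_transferSylow_isComplement' Q hN
  by_cases hN1 : N = ⊥
  · rw [← hQU]
    rw [← hNdef, hN1] at hcomp
    exact Subgroup.isComplement'_bot_left.mp hcomp
  exfalso
  obtain ⟨ℓ, hℓ, hℓN⟩ := Nat.exists_prime_and_dvd (n := Nat.card N)
    (fun h => hN1 (Subgroup.card_eq_one.mp h))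
  haveI := Fact.mk hℓ
  obtain ⟨R⟩ : Nonempty (Sylow ℓ N) := inferInstance
  set R' : Subgroup P := (R : Subgroup N).map N.subtype with hR'
  have htop := Sylow.normalizer_sup_eq_top R
  -- a conjugate of the subgroup normalises the Sylow subgroup
  have hcardN : Nat.card (Subgroup.normalizer (R' : Set P)) * Nat.card N =
      Nat.card P * Nat.card ↥((N : Subgroup P).subgroupOf (Subgroup.normalizer (R' : Set P))) := by
    set T := Subgroup.normalizer (R' : Set P)
    have e1 := (N.subgroupOf T).card_mul_index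
    have e2 : (N.subgroupOf T).index = N.index := by
      rw [← Subgroup.relIndex, ← Subgroup.relIndex_top_right (H := N), ← htop]
      exact (Subgroup.relIndex_sup_right (K := N) (H := T)).symm
    have e3 := N.card_mul_index
    rw [e2] at e1
    rw [← e1, ← e3]; ring
  set T := Subgroup.normalizer (R' : Set P) with hT
  obtain ⟨W⟩ : Nonempty (Sylow p T) := inferInstance
  set W' : Subgroup P := (W : Subgroup T).map T.subtype with hW'
  have hWp : IsPGroup p W' := W.isPGroup'.map _
  obtain ⟨W2, hW2⟩ := hWp.exists_le_sylow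
  have hcardW : Nat.card W' = Nat.card W2 := by
    rw [hW', Subgroup.card_subtype, Sylow.card_eq_multiplicity, Sylow.card_eq_multiplicity]
    congr 1
    have h := congrArg (fun n => n.factorization p) hcardN
    rw [Nat.factorization_mul Nat.card_pos.ne' Nat.card_pos.ne',
      Nat.factorization_mul Nat.card_pos.ne' Nat.card_pos.ne', Finsupp.add_apply,
      Finsupp.add_apply, Nat.factorization_eq_zero_of_not_dvd hpN,
      Nat.factorization_eq_zero_of_not_dvd (n := Nat.card ↥(N.subgroupOf T)) (fun hd => hpN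
        (hd.trans (Subgroup.card_dvd_of_injective
          ({ toFun := fun x => ⟨((x : T) : P), x.2⟩,
              map_one' := rfl,
              map_mul' := fun _ _ => rfl } : ↥(N.subgroupOf T) →* N)
          (fun a b h => Subtype.ext (Subtype.ext (by simpa using congrArg Subtype.val h))))))] at h
    omega
  have hWW : W' = (W2 : Subgroup P) := Subgroup.eq_of_le_of_card_ge hW2 hcardW.ge
  obtain ⟨g, hg⟩ := MulAction.exists_smul_eq P Q W2
  have hnorm : ∀ a ∈ U, g * a * g⁻¹ ∈ T := fun a ha => by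
    have h1 : g * a * g⁻¹ ∈ (W2 : Subgroup P) := by
      rw [← hg, Sylow.smul_def, Sylow.pointwise_smul_def]
      exact ⟨a, hQU.symm ▸ ha, rfl⟩
    rw [← hWW] at h1
    obtain ⟨w, -, hw⟩ := h1
    exact hw ▸ w.2
  -- so a Sylow subgroup of the complement is normalised
  set Z : Subgroup P := ((Subgroup.center R).map (R : Subgroup N).subtype).map N.subtype with hZ
  have hZR : Z ≤ R' := Subgroup.map_mono (Subgroup.map_subtype_le _)
  have hZcomm : ∀ a ∈ Z, ∀ b ∈ R', a * b = b * a := by
    rintro _ ⟨_, ⟨a, ha, rfl⟩, rfl⟩ _ ⟨b, hb, rfl⟩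
    have := congrArg (fun x : R => ((x : N) : P)) ((Subgroup.mem_center_iff.mp ha) ⟨b, hb⟩)
    simpa using this.symm
  have hZmem : ∀ x, x ∈ R' → (∀ b ∈ R', x * b = b * x) → x ∈ Z := by
    rintro _ ⟨a, ha, rfl⟩ h
    refine ⟨a, ⟨⟨a, ha⟩, Subgroup.mem_center_iff.mpr fun b => ?_, rfl⟩, rfl⟩
    refine Subtype.ext (Subtype.ext ?_)
    simpa using (h _ ⟨(b : N), b.2, rfl⟩).symm
  have hZinv : ∀ t ∈ T, ∀ x ∈ Z, t * x * t⁻¹ ∈ Z := by
    intro t ht x hx
    refine hZmem _ ((Subgroup.mem_normalizer_iff.mp ht x).mp (hZR hx)) fun b hb => ?_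
    have hb' : t⁻¹ * b * t ∈ R' := (Subgroup.mem_normalizer_iff''.mp ht b).mp hb
    have h1 := congrArg (fun y => t * y * t⁻¹) (hZcomm x hx _ hb')
    convert h1 using 1 <;> group
  haveI : IsMulCommutative Z := ⟨⟨fun a b => Subtype.ext (hZcomm a a.2 b (hZR b.2))⟩⟩
  letI : CommGroup Z := { (inferInstance : Group Z) with mul_comm := mul_comm' }
  let ρ : T → (Z ≃* Z) := fun t =>
    { toFun := fun x => ⟨(t : P) * x * (t : P)⁻¹, hZinv t t.2 x x.2⟩
      invFun := fun x => ⟨(t : P)⁻¹ * x * (t : P), by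
        have := hZinv _ (inv_mem t.2) x x.2; rwa [inv_inv] at this⟩
      left_inv := fun x => Subtype.ext (by simp only; group)
      right_inv := fun x => Subtype.ext (by simp only; group)
      map_mul' := fun x y => Subtype.ext (by simp only [Subgroup.coe_mul]; group) }
  have hρmul : ∀ s t, ρ (s * t) = ρ s * ρ t := fun s t => MulEquiv.ext fun x =>
    Subtype.ext (by simp only [ρ, MulEquiv.coe_mk, Equiv.coe_fn_mk, MulAut.mul_apply,
      Subgroup.coe_mul]; group)
  have hρ1 : ρ 1 = 1 := MulEquiv.ext fun x => Subtype.ext (by simp [ρ])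
  have hρpow : ∀ t n, ρ (t ^ n) = ρ t ^ n := fun t n => by
    induction n with
    | zero => rw [pow_zero, pow_zero, hρ1]
    | succ n ih => rw [pow_succ, pow_succ, hρmul, ih]
  let s : T := ⟨g * u * g⁻¹, hnorm u hu⟩
  let t : T := ⟨g * v * g⁻¹, hnorm v hv⟩
  have hst : s * t = t * s := Subtype.ext (by
    simp only [s, t, Subgroup.coe_mul]
    rw [show g * u * g⁻¹ * (g * v * g⁻¹) = g * (u * v) * g⁻¹ by group, hcomm u hu v hv]
    group)
  have hord : ∀ a, ∀ ha : a ∈ U, (⟨g * a * g⁻¹, hnorm a ha⟩ : T) ^ p = 1 := fun a ha =>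
    Subtype.ext (by simp [conj_pow, hexp a ha])
  -- no fixed points
  have hff : ∀ a, (∀ y, y * a = a * y → y ∈ U) → ∀ z ∈ Z,
      (g * a * g⁻¹) * z * (g * a * g⁻¹)⁻¹ = z → z = 1 := by
    intro a hca z hz hfix
    have hzN : z ∈ N := (Subgroup.map_subtype_le _) hz
    by_contra hz1
    set z' := g⁻¹ * z * g with hz'
    have hcz : z' * a * z'⁻¹ = a := by
      have : g * a * g⁻¹ * z = z * (g * a * g⁻¹) := mul_inv_eq_iff_eq_mul.mp hfix
      rw [hz']
      calc g⁻¹ * z * g * a * (g⁻¹ * z * g)⁻¹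
          = g⁻¹ * (z * (g * a * g⁻¹)) * z⁻¹ * g := by group
        _ = g⁻¹ * (g * a * g⁻¹ * z) * z⁻¹ * g := by rw [this]
        _ = a := by group
    have hz'U : z' ∈ U := hca z' (mul_inv_eq_iff_eq_mul.mp hcz)
    have hz'N : z' ∈ N := by
      have := (inferInstance : N.Normal).conj_mem z hzN g⁻¹
      rwa [inv_inv] at this
    have : z' = 1 := Subgroup.disjoint_def.mp hcomp.disjoint hz'N (hQU.symm ▸ hz'U)
    exact hz1 (by
      have h2 := congrArg (fun y => g * y * g⁻¹) this
      simp only [hz'] at h2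
      simpa [mul_assoc] using h2)
  have hzp : ∀ z : Z, z ^ p = 1 := fun z =>
    pow_eq_one_of_fixed_free hp (ρ s) (ρ t) (by rw [← hρpow, hord u hu, hρ1])
      (by rw [← hρpow, hord v hv, hρ1]) (by rw [← hρmul, ← hρmul, hst])
      (fun i z hz => by
        rw [← hρpow, ← hρmul] at hz
        have h1 := congrArg Subtype.val hz
        refine Subtype.ext (hff (u * v ^ i) (hcu i) z z.2 ?_)
        simp only [ρ, MulEquiv.coe_mk, Equiv.coe_fn_mk, Subgroup.coe_mul, SubmonoidClass.coe_pow,
          s, t, conj_pow] at h1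
        calc g * (u * v ^ i) * g⁻¹ * (z : P) * (g * (u * v ^ i) * g⁻¹)⁻¹
            = g * u * g⁻¹ * (g * v ^ i * g⁻¹) * (z : P) *
              (g * u * g⁻¹ * (g * v ^ i * g⁻¹))⁻¹ := by group
          _ = z := h1)
      (fun z hz => Subtype.ext (hff v hcv z z.2 (congrArg Subtype.val hz))) z
  -- but the centre is a nontrivial group of order prime to `p`
  have hRne : (R : Subgroup N) ≠ ⊥ := R.ne_bot_of_dvd_card hℓN
  haveI : Nontrivial R := (Subgroup.nontrivial_iff_ne_bot _).mpr hRne
  haveI := R.isPGroup'.center_nontrivial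
  obtain ⟨c, hc⟩ := exists_ne (1 : Subgroup.center R)
  let z : Z := ⟨(((c : R) : N) : P), ⟨_, ⟨c, c.2, rfl⟩, rfl⟩⟩
  have hz1 : z ≠ 1 := fun h => hc (Subtype.ext (Subtype.ext (Subtype.ext (by simpa [z] using congrArg Subtype.val h))))
  have hord2 : orderOf (z : P) = p := orderOf_eq_prime (congrArg Subtype.val (hzp z))
    (fun h => hz1 (Subtype.ext h))
  refine hpN (hord2 ▸ ?_)
  have hzN : (z : P) ∈ N := ((c : R) : N).2
  rw [show (z : P) = ((⟨(z : P), hzN⟩ : N) : P) from rfl, Subgroup.orderOf_coe]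
  exact orderOf_dvd_natCard _

end Cfsg.Agent.ExtFieldMax.Orth.Three
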