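import Cfsg.Agent.ExtFieldMax.Orth.Three.Cases
import Cfsg.Agent.ExtFieldMax.Orth.Three.Group

/-!
Root elements from an element fixing two points of a line and moving it (helper98).
-/

set_option autoImplicit false

namespace Cfsg.Agent.ExtFieldMax.Orth.Three

open Matrix Cfsg.Agent.MaxSub

variable {ι : Type} [Fintype ι] [DecidableEq ι] {F : Type*} [Field F]
variable {f : (ι → F) → (ι → F) → F} {K : Subalgebra F (Matrix ι ι F)} {r : ℕ}
variable {H : Subgroup (GL ι F)} (D : Dim3 f K r H) (G : Sp.KForm f K)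

/-- An element acting as a unipotent map followed by a root map. -/
def IsUni (G : Sp.KForm f K) (v w : ι → F) (a : GL ι F) (p : K) (ψ : K →ₗ[F] K) : Prop :=
  ∀ y, (a : Matrix ι ι F) *ᵥ y = uMap G v w p y + ev K v (ψ (G.phi v y))

theorem uMap_add_vec (v w : ι → F) (p : K) (y z : ι → F) :
    uMap G v w p (y + z) = uMap G v w p y + uMap G v w p z := by
  simp only [uMap, map_add, mul_add, smul_add]
  abel

theorem uMap_zero (v w : ι → F) (y : ι → F) : uMap G v w 0 y = y := by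
  simp [uMap]

variable {v v' w : ι → F} (Φ : Frame G v v' w)
include D Φ

theorem isUni_mul {a b : GL ι F} {p q : K} {ψ χ : K →ₗ[F] K} (ha : IsUni G v w a p ψ)
    (hb : IsUni G v w b q χ) : IsUni G v w (a * b) (p + q) (ψ + χ) := fun y => by
  rw [Units.val_mul, ← mulVec_mulVec, hb, mulVec_add, ha, ha, uMap_add D G Φ, phi_v_uMap D G Φ,
    uMap_line D G Φ, phi_ev D.hK (G.klin v), Φ.hv, mul_zero, map_zero, map_zero,
    LinearMap.add_apply, map_add]
  abel

theorem isUni_inv {a : GL ι F} {p : K} {ψ : K →ₗ[F] K} (ha : IsUni G v w a p ψ) :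
    IsUni G v w a⁻¹ (-p) (-ψ) := fun y => by
  refine mulVec_injective a ?_
  show (a : Matrix ι ι F) *ᵥ _ = (a : Matrix ι ι F) *ᵥ _
  rw [mulVec_inv_mulVec, mulVec_add, ha, ha, uMap_add D G Φ, add_neg_cancel, uMap_zero,
    phi_v_uMap D G Φ, uMap_line D G Φ, phi_ev D.hK (G.klin v), Φ.hv, mul_zero, map_zero,
    map_zero, LinearMap.neg_apply, map_neg]
  abel

omit D Φ in
theorem isUni_one : IsUni G v w 1 0 0 := fun y => by
  simp [uMap_zero]

theorem isUni_pow {a : GL ι F} {p : K} {ψ : K →ₗ[F] K} (ha : IsUni G v w a p ψ) :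
    ∀ n : ℕ, IsUni G v w (a ^ n) (n • p) (n • ψ)
  | 0 => by simpa using isUni_one G
  | n + 1 => by
      rw [pow_succ, succ_nsmul, succ_nsmul]
      exact isUni_mul D G Φ (isUni_pow ha n) ha

theorem isUni_ext {a b : GL ι F} {p : K} {ψ : K →ₗ[F] K} (ha : IsUni G v w a p ψ)
    (hb : IsUni G v w b p ψ) : a = b :=
  Units.ext (Matrix.ext_iff_mulVec.mpr fun y => by rw [ha, hb])

theorem isUni_line {a : GL ι F} {p : K} {ψ : K →ₗ[F] K} (ha : IsUni G v w a p ψ) (μ : K) :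
    (a : Matrix ι ι F) *ᵥ ev K v μ = ev K v μ := by
  rw [ha, uMap_line D G Φ, phi_ev D.hK (G.klin v), Φ.hv, mul_zero, map_zero, map_zero, add_zero]

theorem isUni_fixed {a : GL ι F} {p : K} {ψ : K →ₗ[F] K} (ha : IsUni G v w a p ψ) (hp : p ≠ 0)
    {y : ι → F} (hy : (a : Matrix ι ι F) *ᵥ y = y) : y ∈ kline K v := by
  letI : Field K := (isField_of D.hK D.one_le).toField
  have h := congrArg (G.phi w) hy
  rw [ha, map_add, phi_w_uMap D G Φ, phi_ev D.hK (G.klin w), phi_w_v D G Φ, mul_zero, add_zero,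
    add_eq_left] at h
  have hδ := (mul_eq_zero.mp ((mul_eq_zero.mp h).resolve_right Φ.hw)).resolve_left hp
  rw [ha, hδ, map_zero, map_zero, add_zero] at hy
  exact fixed_uMap D G Φ hp hy

variable [Finite F]

/-- A pair gives root elements. -/
theorem root_of_pair (hp : HasPair H K v) : ∃ ψ ∈ skewSpace D G Φ.hv, ψ ≠ 0 := by
  classical
  letI : Field K := (isField_of D.hK D.one_le).toField
  haveI : Module.Finite F K :=
    Module.finite_of_finrank_pos (by rw [D.hK.finrank_eq]; exact D.hr.pos)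
  by_contra hno
  obtain ⟨g, hg, c1, c2, hc1, hind, hf1, hf2, μ, hμ⟩ := hp
  let P : Subgroup (GL ι F) :=
    { carrier := {h | h ∈ H ∧ (h : Matrix ι ι F) *ᵥ ev K v c1 = ev K v c1 ∧
        (h : Matrix ι ι F) *ᵥ ev K v c2 = ev K v c2}
      one_mem' := ⟨one_mem H, by simp, by simp⟩
      mul_mem' := fun {a b} ha hb => ⟨mul_mem ha.1 hb.1,
        by rw [Units.val_mul, ← mulVec_mulVec, hb.2.1, ha.2.1],
        by rw [Units.val_mul, ← mulVec_mulVec, hb.2.2, ha.2.2]⟩
      inv_mem' := fun {a} ha => ⟨inv_mem ha.1,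
        by conv_lhs => rw [← ha.2.1, inv_mulVec_mulVec],
        by conv_lhs => rw [← ha.2.2, inv_mulVec_mulVec]⟩ }
  let U : Subgroup P :=
    { carrier := {a | ∃ p ψ, IsUni G v w (a : GL ι F) p ψ}
      one_mem' := ⟨0, 0, isUni_one G⟩
      mul_mem' := fun {a b} ⟨p, ψ, ha⟩ ⟨q, χ, hb⟩ => ⟨_, _, isUni_mul D G Φ ha hb⟩
      inv_mem' := fun {a} ⟨p, ψ, ha⟩ => ⟨_, _, isUni_inv D G Φ ha⟩ }
  -- elements stabilising the line
  have hstab : ∀ a : P, (∀ μ : K, ((a : GL ι F) : Matrix ι ι F) *ᵥ ev K v μ ∈ kline K v) →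
      a ∈ U := by
    intro a ha
    let τ : K →ₗ[F] K := G.phi v' ∘ₗ ((a : GL ι F) : Matrix ι ι F).mulVecLin ∘ₗ ev K v
    have hτ : ∀ μ, ((a : GL ι F) : Matrix ι ι F) *ᵥ ev K v μ = ev K v (τ μ) := fun μ => by
      obtain ⟨ν, hν⟩ := ha μ
      have e : τ μ = ν := by
        show G.phi v' (((a : GL ι F) : Matrix ι ι F) *ᵥ ev K v μ) = ν
        rw [← hν, phi_ev D.hK (G.klin v'), phi_v'_v D G Φ, mul_one]
      rw [e, hν]
    rcases semilinear_or_root D G Φ a.2.1 hτ with h | ⟨σ, hσ⟩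
    · exact absurd h hno
    have hfix : ∀ c : K, ((a : GL ι F) : Matrix ι ι F) *ᵥ ev K v c = ev K v c →
        τ c = (1 : F) • c := fun c hc => by
      rw [one_smul]
      exact ev_injective D.hK (v_ne_zero D G Φ) (by rw [← hτ, hc])
    have hτ0 : τ 1 ≠ 0 := fun h => one_ne_zero ((tau_bijective D G Φ a.2.1 hτ).1
      (h.trans (map_zero τ).symm))
    have hid := eq_sign_of_semilinear D hσ hτ0 (one_mul 1) (one_mul 1) (hfix _ a.2.2.1)
      (hfix _ a.2.2.2) hind hc1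
    rcases unipotent_or_root D G Φ a.2.1 hτ (fun μ => by rw [hid, one_smul]) with h | ⟨p, ψ, h⟩
    · exact absurd h hno
    · exact ⟨p, ψ, h⟩
  -- elements commuting with a moving unipotent
  have hcent : ∀ (a b : P) (p : K) (ψ : K →ₗ[F] K), IsUni G v w (b : GL ι F) p ψ → p ≠ 0 →
      a * b = b * a → a ∈ U := by
    intro a b p ψ hb hp hab
    refine hstab a fun μ => isUni_fixed D G Φ hb hp ?_
    have h := congrArg (fun z : P => ((z : GL ι F) : Matrix ι ι F) *ᵥ ev K v μ) hab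
    simp only [Subgroup.coe_mul, Units.val_mul, ← mulVec_mulVec, isUni_line D G Φ hb] at h
    exact h.symm
  have helt : ∀ p : K, ∃ a : P, IsUni G v w (a : GL ι F) p 0 := fun p => by
    obtain ⟨e, he, hex⟩ := exists_uMap D G Φ p
    exact ⟨⟨e, he, by rw [hex, uMap_line D G Φ], by rw [hex, uMap_line D G Φ]⟩,
      fun y => by rw [hex]; simp⟩
  obtain ⟨ω, hω⟩ : ∃ ω : K, ∀ s : F, ω ≠ algebraMap F K s := by
    by_contra hc
    push Not at hc
    have h1 := finrank_le_one (R := F) (1 : K) fun k => by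
      obtain ⟨s, hs⟩ := hc k
      exact ⟨s, by rw [hs, Algebra.smul_def, mul_one]⟩
    rw [D.hK.finrank_eq] at h1
    exact absurd D.three (by omega)
  obtain ⟨a, ha⟩ := helt ω
  obtain ⟨b, hb⟩ := helt 1
  haveI hch : CharP F (ringChar F) := ringChar.charP F
  have hU : U = ⊤ := by
    refine eq_top_of_selfnormalizing (CharP.char_is_prime F (ringChar F)) ?_ ?_ ⟨ω, 0, ha⟩
      ⟨1, 0, hb⟩ ?_ ?_ ?_
    · rintro x ⟨p, ψ, hx⟩ y ⟨q, χ, hy⟩
      refine Subtype.ext (isUni_ext D G Φ (isUni_mul D G Φ hx hy) ?_)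
      rw [add_comm p, add_comm ψ]
      exact isUni_mul D G Φ hy hx
    · rintro x ⟨p, ψ, hx⟩
      refine Subtype.ext (isUni_ext D G Φ (p := 0) (ψ := 0) ?_ (isUni_one G))
      have h := isUni_pow D G Φ hx (ringChar F)
      rwa [← Nat.cast_smul_eq_nsmul F (ringChar F) p, ← Nat.cast_smul_eq_nsmul F (ringChar F) ψ,
        CharP.cast_eq_zero, zero_smul, zero_smul] at h
    · intro x hx
      refine inv_mem_iff.mp (hstab _ fun μ => isUni_fixed D G Φ hb one_ne_zero ?_)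
      obtain ⟨p, ψ, hconj⟩ := (hx b).mp ⟨1, 0, hb⟩
      have h := isUni_line D G Φ hconj μ
      simp only [Subgroup.coe_mul, Subgroup.coe_inv, Units.val_mul, ← mulVec_mulVec] at h ⊢
      refine mulVec_injective (x : GL ι F) ?_
      show ((x : GL ι F) : Matrix ι ι F) *ᵥ _ = ((x : GL ι F) : Matrix ι ι F) *ᵥ _
      rw [h, mulVec_inv_mulVec]
    · intro x hx
      exact hcent x b 1 0 hb one_ne_zero hx
    · intro i x hx
      refine hcent x (a * b ^ i) (ω + i • 1) (0 + i • 0) ?_ ?_ hx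
      · rw [Subgroup.coe_mul, SubmonoidClass.coe_pow]
        exact isUni_mul D G Φ ha (isUni_pow D G Φ hb i)
      · intro h
        refine hω (-(i : F)) ?_
        rw [map_neg, map_natCast, eq_neg_of_add_eq_zero_left h, nsmul_one]
  obtain ⟨p, ψ, h⟩ : (⟨g, hg, hf1, hf2⟩ : P) ∈ U := hU ▸ Subgroup.mem_top _
  exact hμ ⟨μ, (isUni_line D G Φ h μ).symm⟩

/-- Root elements exist on every isotropic line. -/
theorem root_exists
    (hn' : ∃ g ∈ H, ∃ (x : ι → F), G.phi x x = 0 ∧ ∃ k : K,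
      (g : Matrix ι ι F) *ᵥ ((k : Matrix ι ι F) *ᵥ x) ∉ kline K ((g : Matrix ι ι F) *ᵥ x)) :
    ∃ ψ ∈ skewSpace D G Φ.hv, ψ ≠ 0 := by
  obtain ⟨g, hg, hline⟩ := exists_nonline D G Φ.hv (v_ne_zero D G Φ) hn'
  rcases pair_or_root D G Φ hg hline with h | h
  · exact root_of_pair D G Φ h
  · exact h

end Cfsg.Agent.ExtFieldMax.Orth.Three
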