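import Cfsg.Agent.ExtFieldMax.Orth.Gen

/-!
Coordinates and unipotent elements in dimension three over the field (helper98).
-/

set_option autoImplicit false

namespace Cfsg.Agent.ExtFieldMax.Orth.Three

open Matrix Cfsg.Agent.MaxSub

variable {ι : Type} [Fintype ι] [DecidableEq ι] {F : Type*} [Field F]
variable {f : (ι → F) → (ι → F) → F} {K : Subalgebra F (Matrix ι ι F)} {r : ℕ}

/-- The standing assumptions in dimension three over the field. -/
structure Dim3 (f : (ι → F) → (ι → F) → F) (K : Subalgebra F (Matrix ι ι F)) (r : ℕ)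
    (H : Subgroup (GL ι F)) : Prop extends Setting f K r H where
  card_eq : Fintype.card ι = 3 * r
  three : 3 ≤ r
  det_one : ∀ g ∈ H, (g : Matrix ι ι F).det = 1

/-- A hyperbolic pair and an orthogonal anisotropic vector. -/
structure Frame (G : Sp.KForm f K) (v v' w : ι → F) : Prop where
  hv : G.phi v v = 0
  hv' : G.phi v' v' = 0
  hvv' : G.phi v v' = 1
  hvw : G.phi v w = 0
  hv'w : G.phi v' w = 0
  hw : G.phi w w ≠ 0

/-- The unipotent map of a frame with parameter `p`. -/
def uMap (G : Sp.KForm f K) (v w : ι → F) (p : K) (x : ι → F) : ι → F :=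
  x + ev K w (p * G.phi v x) -
    ev K v (p * G.phi w x + (2 : F)⁻¹ • (p * p * (G.phi w w * G.phi v x)))

variable {H : Subgroup (GL ι F)} (D : Dim3 f K r H) (G : Sp.KForm f K)
include D

theorem odd_r : Odd r := D.hr.eq_two_or_odd'.resolve_left (by have := D.three; omega)

theorem exists_frame [Finite F] {v : ι → F} (hv : G.phi v v = 0) (hv0 : v ≠ 0) :
    ∃ v' w, Frame G v v' w := by
  obtain ⟨v', hv', h⟩ := exists_partner D.toSetting G hv hv0
  obtain ⟨w, h1, h2, h3⟩ := exists_aniso_perp D.toSetting G (by rw [D.card_eq]) hv hv' h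
  exact ⟨v', w, hv, hv', h, h1, h2, h3⟩

variable {v v' w : ι → F} (Φ : Frame G v v' w)
include Φ

theorem v_ne_zero : v ≠ 0 := fun h => by
  letI : Field K := (isField_of D.hK D.one_le).toField
  have := Φ.hvv'
  rw [h, phi_symm D.toSetting G, map_zero] at this
  exact zero_ne_one this

theorem phi_w_v : G.phi w v = 0 := by rw [phi_symm D.toSetting G, Φ.hvw]

theorem phi_w_v' : G.phi w v' = 0 := by rw [phi_symm D.toSetting G, Φ.hv'w]

theorem phi_v'_v : G.phi v' v = 1 := by rw [phi_symm D.toSetting G, Φ.hvv']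

theorem phi_v_comb (a b c : K) : G.phi v (ev K v a + ev K w b + ev K v' c) = c := by
  rw [map_add, map_add, phi_ev D.hK (G.klin v), phi_ev D.hK (G.klin v), phi_ev D.hK (G.klin v),
    Φ.hv, Φ.hvw, Φ.hvv', mul_zero, mul_zero, mul_one, zero_add, zero_add]

theorem phi_w_comb (a b c : K) :
    G.phi w (ev K v a + ev K w b + ev K v' c) = b * G.phi w w := by
  rw [map_add, map_add, phi_ev D.hK (G.klin w), phi_ev D.hK (G.klin w), phi_ev D.hK (G.klin w),
    phi_w_v D G Φ, phi_w_v' D G Φ, mul_zero, mul_zero, zero_add, add_zero]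

theorem phi_v'_comb (a b c : K) : G.phi v' (ev K v a + ev K w b + ev K v' c) = a := by
  rw [map_add, map_add, phi_ev D.hK (G.klin v'), phi_ev D.hK (G.klin v'),
    phi_ev D.hK (G.klin v'), phi_v'_v D G Φ, Φ.hv'w, Φ.hv', mul_one, mul_zero, mul_zero, add_zero,
    add_zero]

/-- Coordinates. -/
theorem exists_coords (x : ι → F) :
    ∃ a b c : K, x = ev K v a + ev K w b + ev K v' c := by
  letI : Field K := (isField_of D.hK D.one_le).toField
  haveI : Module.Finite F K :=
    Module.finite_of_finrank_pos (by rw [D.hK.finrank_eq]; exact D.hr.pos)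
  let T : K × K × K →ₗ[F] (ι → F) :=
    ev K v ∘ₗ LinearMap.fst F K (K × K) +
      ev K w ∘ₗ LinearMap.fst F K K ∘ₗ LinearMap.snd F K (K × K) +
      ev K v' ∘ₗ LinearMap.snd F K K ∘ₗ LinearMap.snd F K (K × K)
  have hT : ∀ a b c : K, T (a, b, c) = ev K v a + ev K w b + ev K v' c := fun a b c => rfl
  have hinj : Function.Injective T := by
    rw [injective_iff_map_eq_zero]
    rintro ⟨a, b, c⟩ h
    rw [hT] at h
    have h1 := phi_v_comb D G Φ a b c
    have h2 := phi_w_comb D G Φ a b c
    have h3 := phi_v'_comb D G Φ a b c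
    rw [h, map_zero] at h1 h2 h3
    rw [← h1, ← h3, (mul_eq_zero.mp h2.symm).resolve_right Φ.hw]
    rfl
  have hfr : Module.finrank F (K × K × K) = Module.finrank F (ι → F) := by
    rw [Module.finrank_prod, Module.finrank_prod, D.hK.finrank_eq,
      Module.finrank_fintype_fun_eq_card, D.card_eq]
    omega
  obtain ⟨⟨a, b, c⟩, h⟩ :=
    (LinearMap.injective_iff_surjective_of_finrank_eq_finrank hfr).mp hinj x
  exact ⟨a, b, c, by rw [← hT, h]⟩

theorem exists_coords_perp {x : ι → F} (hx : G.phi v x = 0) :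
    ∃ a b : K, x = ev K v a + ev K w b := by
  obtain ⟨a, b, c, rfl⟩ := exists_coords D G Φ x
  rw [phi_v_comb D G Φ] at hx
  exact ⟨a, b, by rw [hx, map_zero, add_zero]⟩

theorem mem_line_of_zero {x : ι → F} (hx : G.phi v x = 0) (hwx : G.phi w x = 0) :
    x ∈ kline K v := by
  letI : Field K := (isField_of D.hK D.one_le).toField
  obtain ⟨a, b, c, rfl⟩ := exists_coords D G Φ x
  rw [phi_v_comb D G Φ] at hx
  rw [phi_w_comb D G Φ] at hwx
  exact ⟨a, by rw [hx, (mul_eq_zero.mp hwx).resolve_right Φ.hw, map_zero, map_zero, add_zero,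
    add_zero]⟩

omit Φ in
theorem eq_of_form_right {x y : ι → F} (h : ∀ t, f x t = f y t) : x = y :=
  sub_eq_zero.mp (D.nd _ fun t => by rw [form_sub_left D.bil, h, sub_self])

theorem phi_v_uMap (p : K) (x : ι → F) : G.phi v (uMap G v w p x) = G.phi v x := by
  rw [uMap, map_sub, map_add, phi_ev D.hK (G.klin v), phi_ev D.hK (G.klin v), Φ.hv, Φ.hvw,
    mul_zero, mul_zero, add_zero, sub_zero]

theorem phi_w_uMap (p : K) (x : ι → F) :
    G.phi w (uMap G v w p x) = G.phi w x + p * G.phi v x * G.phi w w := by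
  rw [uMap, map_sub, map_add, phi_ev D.hK (G.klin w), phi_ev D.hK (G.klin w), phi_w_v D G Φ,
    mul_zero, sub_zero]

theorem uMap_line (p μ : K) : uMap G v w p (ev K v μ) = ev K v μ := by
  rw [uMap, phi_ev D.hK (G.klin v), phi_ev D.hK (G.klin w), Φ.hv, phi_w_v D G Φ]
  simp

theorem uMap_add (p q : K) (x : ι → F) :
    uMap G v w p (uMap G v w q x) = uMap G v w (p + q) x := by
  letI : Field K := (isField_of D.hK D.one_le).toField
  have h1 := phi_v_uMap D G Φ q x
  have h2 := phi_w_uMap D G Φ q x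
  rw [uMap, h1, h2]
  simp only [uMap, add_mul, mul_add, map_add, map_smul, smul_add]
  have e1 : (p * q * (G.phi w w * G.phi v x) : K) = p * (q * G.phi v x * G.phi w w) := by ring
  have e2 : (q * p * (G.phi w w * G.phi v x) : K) = p * (q * G.phi v x * G.phi w w) := by ring
  rw [e1, e2]
  have e3 := half_two D.toSetting (p * (q * G.phi v x * G.phi w w))
  have e4 := congrArg (ev K v) e3
  rw [map_add, map_smul] at e4
  linear_combination (norm := module) e4

/-- The unipotent elements. -/
theorem exists_uMap (p : K) :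
    ∃ e ∈ H, ∀ x, (e : Matrix ι ι F) *ᵥ x = uMap G v w p x := by
  letI : Field K := (isField_of D.hK D.one_le).toField
  obtain ⟨e, he, -, hx⟩ := inH_siegel D.toSetting G Φ.hv (w := ev K w p)
    (by rw [phi_ev D.hK (G.klin v), Φ.hvw, mul_zero])
  refine ⟨e, he, fun x => ?_⟩
  rw [hx, siegel, uMap, phi_ev_left D.toSetting G w p x, phi_ev_left D.toSetting G w p,
    phi_ev D.hK (G.klin w), ev_apply _ (G.phi v x), ← ev_mul, mul_comm (G.phi v x) p, map_add,
    map_smul, show p * (p * G.phi w w) * G.phi v x = p * p * (G.phi w w * G.phi v x) by ring]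
  abel

theorem fixed_uMap {p : K} (hp : p ≠ 0) {x : ι → F} (h : uMap G v w p x = x) :
    x ∈ kline K v := by
  letI : Field K := (isField_of D.hK D.one_le).toField
  have h1 : G.phi v x = 0 := by
    have e := phi_w_uMap D G Φ p x
    rw [h, left_eq_add] at e
    exact (mul_eq_zero.mp ((mul_eq_zero.mp e).resolve_right Φ.hw)).resolve_left hp
  refine mem_line_of_zero D G Φ h1 ?_
  rw [uMap, h1] at h
  simp only [mul_zero, map_zero, smul_zero, add_zero, sub_eq_self] at h
  exact (mul_eq_zero.mp (ev_injective D.hK (v_ne_zero D G Φ) (h.trans (map_zero _).symm))).resolve_left hp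

end Cfsg.Agent.ExtFieldMax.Orth.Three
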