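import Cfsg.Agent.ExtFieldMax.Orth.Three.Engine

/-!
An image of an isotropic line meeting it, in dimension three over the field (helper98).
-/

set_option autoImplicit false

namespace Cfsg.Agent.ExtFieldMax.Orth.Three

open Matrix Cfsg.Agent.MaxSub

section Field

variable {F E : Type*} [Field F] [Field E] [Algebra F E] [FiniteDimensional F E]

/-- A skew map orthogonal to a twisted square vanishes. -/
theorem skew_eq_zero (hp : (Module.finrank F E).Prime) (h2 : (2 : F) ≠ 0) (θ : E →ₗ[F] F)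
    (hθ : ∀ a, (∀ k, θ (k * a) = 0) → a = 0) {ψ : E →ₗ[F] E}
    (hskew : ∀ a b, θ (a * ψ b) = -θ (b * ψ a)) {a : E} (ha : ∀ s : F, a ≠ algebraMap F E s)
    (h : ∀ y, θ (a * y * ψ y) = 0) : ψ = 0 := by
  have hcomm : ∀ y, ψ (a * y) = a * ψ y := by
    intro y
    refine sub_eq_zero.mp (hθ _ fun z => ?_)
    have h1 := h (y + z)
    simp only [map_add, mul_add, add_mul, h y, h z] at h1
    have h2' : θ (a * y * ψ z) = -θ (z * ψ (a * y)) := by rw [← hskew]
    rw [mul_sub, map_sub, show z * (a * ψ y) = a * z * ψ y by ring]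
    linear_combination -h1 + h2'
  let C : Subalgebra F E :=
    { carrier := {c | ∀ y, ψ (c * y) = c * ψ y}
      mul_mem' := fun {c d} hc hd y => by rw [mul_assoc, hc, hd, mul_assoc]
      one_mem' := fun y => by rw [one_mul, one_mul]
      add_mem' := fun {c d} hc hd y => by rw [add_mul, map_add, hc, hd, add_mul]
      zero_mem' := fun y => by rw [zero_mul, zero_mul, map_zero]
      algebraMap_mem' := fun s y => by rw [← Algebra.smul_def, map_smul, Algebra.smul_def] }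
  haveI := Subalgebra.isSimpleOrder_of_finrank_prime F E hp
  have hC : C = ⊤ := (IsSimpleOrder.eq_bot_or_eq_top C).resolve_left fun hb => by
    have haC : a ∈ C := hcomm
    rw [hb, Algebra.mem_bot] at haC
    obtain ⟨s, hs⟩ := haC
    exact ha s hs.symm
  have hlin : ∀ y, ψ y = y * ψ 1 := fun y => by
    have := (hC ▸ Algebra.mem_top : y ∈ C) 1
    rwa [mul_one] at this
  have h1 : ψ 1 = 0 := hθ _ fun k => by
    have h3 := hskew k 1
    rw [one_mul, hlin k] at h3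
    have : (2 : F) * θ (k * ψ 1) = 0 := by linear_combination h3
    exact (mul_eq_zero.mp this).resolve_left h2
  exact LinearMap.ext fun y => by rw [hlin, h1, mul_zero, LinearMap.zero_apply]

end Field

variable {ι : Type} [Fintype ι] [DecidableEq ι] {F : Type*} [Field F] [Finite F]
variable {f : (ι → F) → (ι → F) → F} {K : Subalgebra F (Matrix ι ι F)} {r : ℕ}
variable {H : Subgroup (GL ι F)} (D : Dim3 f K r H) (G : Sp.KForm f K)

variable {v v' w : ι → F} (Φ : Frame G v v' w)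
include D Φ

theorem exists_root_elt {ψ : K →ₗ[F] K} (hψ : ψ ∈ skewSpace D G Φ.hv) :
    ∃ X ∈ H, ∀ x, (X : Matrix ι ι F) *ᵥ x = x + ev K v (ψ (G.phi v x)) := by
  have h := hψ 1
  rwa [one_smul] at h

/-- Elements of the space are skew. -/
theorem skew_of_mem {ψ : K →ₗ[F] K} (hψ : ψ ∈ skewSpace D G Φ.hv) (a b : K) :
    G.theta (a * ψ b) = -G.theta (b * ψ a) := by
  obtain ⟨X, hX, hXx⟩ := exists_root_elt D G Φ hψ
  have h := isom_form D.toSetting hX (ev K v' a) (ev K v' b)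
  have e1 : ∀ a c : K, f (ev K v' a) (ev K v c) = G.theta (c * a) := fun a c => by
    rw [spec_right D.toSetting G, phi_ev D.hK (G.klin v), Φ.hvv', mul_one]
  have e2 : f (ev K v (ψ a)) (ev K v (ψ b)) = 0 := by
    rw [spec_right D.toSetting G, phi_ev D.hK (G.klin v), Φ.hv, mul_zero, mul_zero, map_zero]
  rw [hXx, hXx, phi_ev D.hK (G.klin v), phi_ev D.hK (G.klin v), Φ.hvv', mul_one, mul_one,
    D.bil.add_left, D.bil.add_right, D.bil.add_right, e2, e1, D.symm (ev K v (ψ a)), e1,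
    kmul_comm D.hK (ψ b), kmul_comm D.hK (ψ a)] at h
  linear_combination h

theorem exists_apply_ne (hroot : ∃ ψ ∈ skewSpace D G Φ.hv, ψ ≠ 0) {δ : K} (hδ : δ ≠ 0) :
    ∃ ψ ∈ skewSpace D G Φ.hv, ψ δ ≠ 0 := by
  letI : Field K := (isField_of D.hK D.one_le).toField
  obtain ⟨ψ, hψ, hne⟩ := hroot
  obtain ⟨y, hy⟩ : ∃ y, ψ y ≠ 0 := by
    by_contra hc
    push Not at hc
    exact hne (LinearMap.ext hc)
  have hy0 : y ≠ 0 := fun h => hy (by rw [h, map_zero])
  refine ⟨_, conj_mem D G Φ (y * δ⁻¹) hψ, ?_⟩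
  simp only [LinearMap.comp_apply, LinearMap.mulLeft_apply, mul_assoc, inv_mul_cancel₀ hδ,
    mul_one]
  exact mul_ne_zero hy0 (mul_ne_zero (inv_ne_zero hδ) hy)

/-- Some image of the line meets it. -/
theorem exists_meeting3
    (hn' : ∃ g ∈ H, ∃ (x : ι → F), G.phi x x = 0 ∧ ∃ k : K,
      (g : Matrix ι ι F) *ᵥ ((k : Matrix ι ι F) *ᵥ x) ∉ kline K ((g : Matrix ι ι F) *ᵥ x)) :
    ∃ h ∈ H, lineImg K h v ≠ kline K v ∧ ∃ c : K, c ≠ 0 ∧ ev K v c ∈ lineImg K h v := by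
  classical
  letI : Field K := (isField_of D.hK D.one_le).toField
  haveI : Module.Finite F K :=
    Module.finite_of_finrank_pos (by rw [D.hK.finrank_eq]; exact D.hr.pos)
  obtain ⟨g, hg, hline⟩ := exists_nonline D G Φ.hv (v_ne_zero D G Φ) hn'
  set T := lineImg K g v with hT
  have hTr : Module.finrank F T = r := finrank_lineImg D.hK g (v_ne_zero D G Φ)
  -- an isotropic point is enough
  have iso : ∀ x ∈ T, x ≠ 0 → G.phi x x = 0 →
      ∃ h ∈ H, lineImg K h v ≠ kline K v ∧ ∃ c : K, c ≠ 0 ∧ ev K v c ∈ lineImg K h v := by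
    intro x hx hx0 hxx
    obtain ⟨c, hc, hcc, k, hk, hcv⟩ := exists_move3 D G Φ.hv (v_ne_zero D G Φ) hxx hx0
    refine ⟨c⁻¹ * g, mul_mem (inv_mem hc) hg, fun he => hline x ?_, k⁻¹, inv_ne_zero hk, ?_⟩
    · refine Submodule.eq_of_le_of_finrank_eq (fun t ht => ?_)
        (by rw [finrank_kline D.hK hx0]; exact hTr)
      obtain ⟨μ, rfl⟩ := mem_lineImg.mp ht
      obtain ⟨ν, hν⟩ : ((c⁻¹ * g : GL ι F) : Matrix ι ι F) *ᵥ ev K v μ ∈ kline K v :=
        he ▸ mem_lineImg.mpr ⟨μ, rfl⟩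
      refine ⟨ν * k, ?_⟩
      rw [Units.val_mul, ← mulVec_mulVec] at hν
      rw [← mulVec_inv_mulVec c ((g : Matrix ι ι F) *ᵥ ev K v μ), ← hν, ev_apply v, hcc, hcv,
        ← ev_mul]
    · obtain ⟨μ, hμ⟩ := mem_lineImg.mp hx
      refine mem_lineImg.mpr ⟨μ, mulVec_injective c ?_⟩
      show (c : Matrix ι ι F) *ᵥ _ = (c : Matrix ι ι F) *ᵥ _
      rw [Units.val_mul, ← mulVec_mulVec, mulVec_inv_mulVec, hμ, ev_apply v k⁻¹, hcc, hcv,
        ← ev_mul, inv_mul_cancel₀ hk, ev_one]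
  obtain ⟨x, hxT, hx0⟩ := Submodule.exists_mem_ne_zero_of_ne_bot (p := T) (fun h => by
    rw [h, finrank_bot] at hTr
    exact D.hr.ne_zero hTr.symm)
  obtain ⟨u, hu, -, hxu⟩ := exists_nonorth D.toSetting G (by rw [D.card_eq]) Φ.hv
    (v_ne_zero D G Φ) hx0
  have hu0 : u ≠ 0 := fun h => hxu (by rw [h, map_zero])
  obtain ⟨u', wu, Ψ⟩ := exists_frame D G hu hu0
  have hroot := root_exists D G Ψ hn'
  obtain ⟨δx, hδx⟩ : ∃ δx, δx = G.phi u x := ⟨_, rfl⟩
  have hδx0 : δx ≠ 0 := by rw [hδx, phi_symm D.toSetting G]; exact hxu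
  -- a root element fixing one point and moving another
  obtain ⟨ψ, hψ, z1, hz1, hz10, hψ1, z2, hz2, hψ2⟩ : ∃ ψ ∈ skewSpace D G Ψ.hv,
      ∃ z1 ∈ T, z1 ≠ 0 ∧ ψ (G.phi u z1) = 0 ∧ ∃ z2 ∈ T, ψ (G.phi u z2) ≠ 0 := by
    by_cases hker : ∃ z ∈ T, z ≠ 0 ∧ G.phi u z = 0
    · obtain ⟨z, hz, hz0, hzu⟩ := hker
      obtain ⟨ψ, hψ, hψx⟩ := exists_apply_ne D G Ψ hroot hδx0
      exact ⟨ψ, hψ, z, hz, hz0, by rw [hzu, map_zero], x, hxT, by rwa [← hδx]⟩
    push Not at hker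
    let P : T →ₗ[F] K := G.phi u ∘ₗ T.subtype
    have hPinj : Function.Injective P := (injective_iff_map_eq_zero _).mpr fun t ht => by
      by_contra h
      exact hker t t.2 (fun h' => h (Subtype.ext h')) ht
    have hPsur : Function.Surjective P :=
      (LinearMap.injective_iff_surjective_of_finrank_eq_finrank
        (by rw [hTr, D.hK.finrank_eq])).mp hPinj
    obtain ⟨ψ, hψ, hne⟩ := hroot
    obtain ⟨a, ha0, ha⟩ := exists_ker_of_skew G.theta G.sep D.two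
      (by rw [D.hK.finrank_eq]; exact odd_r D) (Λ := ψ) (fun a b => by
        rw [map_add, skew_of_mem D G Ψ hψ a b, neg_add_cancel])
    obtain ⟨b, hb⟩ : ∃ b, ψ b ≠ 0 := by
      by_contra hc
      push Not at hc
      exact hne (LinearMap.ext hc)
    obtain ⟨t1, ht1⟩ := hPsur a
    obtain ⟨t2, ht2⟩ := hPsur b
    exact ⟨ψ, hψ, t1, t1.2, fun h => ha0 (by rw [← ht1]; simp [P, h]),
      (congrArg ψ ht1).trans ha, t2, t2.2, fun h => hb ((congrArg ψ ht2).symm.trans h)⟩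
  obtain ⟨X, hX, hXx⟩ := exists_root_elt D G Ψ hψ
  set n := g⁻¹ * X * g with hn
  have hnH : n ∈ H := mul_mem (mul_mem (inv_mem hg) hX) hg
  have hgn : ∀ μ, (g : Matrix ι ι F) *ᵥ ((n : Matrix ι ι F) *ᵥ ev K v μ) =
      (X : Matrix ι ι F) *ᵥ ((g : Matrix ι ι F) *ᵥ ev K v μ) := fun μ => by
    rw [hn, Units.val_mul, Units.val_mul, ← mulVec_mulVec, ← mulVec_mulVec, mulVec_inv_mulVec]
  by_cases hne : lineImg K n v = kline K v
  · -- an isotropic point
    obtain ⟨μ, hμ⟩ := mem_lineImg.mp hz2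
    obtain ⟨ν, hν⟩ : (n : Matrix ι ι F) *ᵥ ev K v μ ∈ kline K v :=
      hne ▸ mem_lineImg.mpr ⟨μ, rfl⟩
    have h1 : ev K u (ψ (G.phi u z2)) ∈ T := by
      have h2 : (X : Matrix ι ι F) *ᵥ z2 ∈ T :=
        mem_lineImg.mpr ⟨ν, by rw [hν, hgn, hμ]⟩
      have h3 := sub_mem h2 hz2
      rwa [hXx, add_sub_cancel_left] at h3
    refine iso _ h1 (fun h => hψ2 (ev_injective D.hK hu0 (h.trans (map_zero _).symm))) ?_
    rw [phi_ev_left D.toSetting G, phi_ev D.hK (G.klin u), hu, mul_zero, mul_zero]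
  · obtain ⟨μ, hμ⟩ := mem_lineImg.mp hz1
    refine ⟨n, hnH, hne, μ, fun h => hz10 (by rw [← hμ, h, map_zero, mulVec_zero]),
      mem_lineImg.mpr ⟨μ, mulVec_injective g ?_⟩⟩
    show (g : Matrix ι ι F) *ᵥ _ = (g : Matrix ι ι F) *ᵥ _
    rw [hgn, hμ, hXx, hψ1, map_zero, add_zero]

end Cfsg.Agent.ExtFieldMax.Orth.Three
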