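import Cfsg.Agent.ExtFieldMax.Orth.Three.Plane

/-!
An element fixing two points of an isotropic line and moving it (helper98).
-/

set_option autoImplicit false

namespace Cfsg.Agent.ExtFieldMax.Orth.Three

open Matrix Cfsg.Agent.MaxSub

variable {ι : Type} [Fintype ι] [DecidableEq ι] {F : Type*} [Field F] [Finite F]
variable {f : (ι → F) → (ι → F) → F} {K : Subalgebra F (Matrix ι ι F)} {r : ℕ}
variable {H : Subgroup (GL ι F)} (D : Dim3 f K r H) (G : Sp.KForm f K)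

/-- An element fixing two points of a line and moving it. -/
def HasPair (H : Subgroup (GL ι F)) (K : Subalgebra F (Matrix ι ι F)) (v : ι → F) : Prop :=
  ∃ g ∈ H, ∃ c1 c2 : K, c1 ≠ 0 ∧ (∀ s : F, c2 ≠ s • c1) ∧
    (g : Matrix ι ι F) *ᵥ ev K v c1 = ev K v c1 ∧ (g : Matrix ι ι F) *ᵥ ev K v c2 = ev K v c2 ∧
    ∃ μ : K, (g : Matrix ι ι F) *ᵥ ev K v μ ∉ kline K v

/-- A pair, or root elements. -/
def PairOrRoot {v : ι → F} (hv : G.phi v v = 0) : Prop :=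
  HasPair H K v ∨ ∃ ψ ∈ skewSpace D G hv, ψ ≠ 0

include D

/-- Transitivity on isotropic lines. -/
theorem exists_move3 {z u : ι → F} (hz : G.phi z z = 0) (hz0 : z ≠ 0) (hu : G.phi u u = 0)
    (hu0 : u ≠ 0) :
    ∃ g ∈ H, Comm K g ∧ ∃ k : K, k ≠ 0 ∧ (g : Matrix ι ι F) *ᵥ z = ev K u k := by
  letI : Field K := (isField_of D.hK D.one_le).toField
  have S := D.toSetting
  have key : ∀ z u : ι → F, G.phi z z = 0 → G.phi u u = 0 → G.phi z u ≠ 0 →
      ∃ g ∈ H, Comm K g ∧ ∃ k : K, k ≠ 0 ∧ (g : Matrix ι ι F) *ᵥ z = ev K u k := by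
    intro z u hz hu hzu
    obtain ⟨u', hu'⟩ : ∃ u', u' = ev K u (G.phi z u)⁻¹ := ⟨_, rfl⟩
    have h1 : G.phi z u' = 1 := by rw [hu', phi_ev D.hK (G.klin z), inv_mul_cancel₀ hzu]
    have h2 : G.phi u' u' = 0 := by
      rw [hu', phi_ev_left S G, phi_ev D.hK (G.klin u), hu, mul_zero, mul_zero]
    obtain ⟨w, hwz, hwu, hw⟩ := exists_aniso_perp S G (by rw [D.card_eq]) hz h2 h1
    rw [hu', phi_ev_left S G] at hwu
    have hwu0 := (mul_eq_zero.mp hwu).resolve_left (inv_ne_zero hzu)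
    obtain ⟨k, hk⟩ : ∃ k : K, k = -((2 : F)⁻¹ • G.phi w w) * (G.phi z u)⁻¹ := ⟨_, rfl⟩
    have hk0 : k ≠ 0 := hk ▸ mul_ne_zero
      (neg_ne_zero.mpr (smul_ne_zero (inv_ne_zero D.two) hw)) (inv_ne_zero hzu)
    obtain ⟨g, hg, hgc, hgz⟩ := exists_move_aux S G hz hu hzu hwz hwu0 hw (k := k)
      (by rw [hk, mul_assoc, inv_mul_cancel₀ hzu, mul_one])
    exact ⟨g, hg, hgc, k, hk0, hgz⟩
  obtain ⟨y, hy, hzy, huy⟩ := exists_nonorth S G (by rw [D.card_eq]) hz hz0 hu0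
  obtain ⟨g, hg, hgc, k, hk, hgz⟩ := key z y hz hy hzy
  obtain ⟨g', hg', hgc', k', hk', hgy⟩ := key y u hy hu (by rw [phi_symm S G]; exact huy)
  refine ⟨g' * g, mul_mem hg' hg, hgc'.mul hgc, k * k', mul_ne_zero hk hk', ?_⟩
  rw [Units.val_mul, ← mulVec_mulVec, hgz, ev_apply, hgc' k y, hgy, ← ev_mul]

/-- Some image of a line is not a line. -/
theorem exists_nonline {v : ι → F} (hv : G.phi v v = 0) (hv0 : v ≠ 0)
    (hn' : ∃ g ∈ H, ∃ (x : ι → F), G.phi x x = 0 ∧ ∃ k : K,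
      (g : Matrix ι ι F) *ᵥ ((k : Matrix ι ι F) *ᵥ x) ∉ kline K ((g : Matrix ι ι F) *ᵥ x)) :
    ∃ g ∈ H, ∀ y, lineImg K g v ≠ kline K y := by
  letI : Field K := (isField_of D.hK D.one_le).toField
  obtain ⟨g, hg, x, hx, k, hk⟩ := hn'
  have hx0 : x ≠ 0 := fun h => hk (by simp [h])
  obtain ⟨c, hc, hcc, k0, hk0, hcv⟩ := exists_move3 D G hv hv0 hx hx0
  refine ⟨g * c, mul_mem hg hc, fun y hy => ?_⟩
  have hmem : ∀ μ : K, (g : Matrix ι ι F) *ᵥ ev K x μ ∈ kline K y := fun μ => by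
    rw [← hy]
    refine mem_lineImg.mpr ⟨μ * k0⁻¹, ?_⟩
    rw [Units.val_mul, ← mulVec_mulVec, ev_apply v, hcc, hcv, ← ev_mul, mul_assoc,
      inv_mul_cancel₀ hk0, mul_one]
  obtain ⟨a, ha⟩ := hmem 1
  rw [ev_one] at ha
  have ha0 : a ≠ 0 := fun h => mulVec_ne_zero g hx0 (by rw [← ha, h, map_zero])
  obtain ⟨b, hb⟩ := hmem k
  refine hk ?_
  rw [← ev_apply, ← hb, ← ha]
  exact ⟨b * a⁻¹, by rw [ev_apply (ev K y a), ← ev_mul, mul_assoc, inv_mul_cancel₀ ha0, mul_one]⟩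

variable {v v' w : ι → F} (Φ : Frame G v v' w)
include Φ

/-- The unipotent elements move every other subspace of the same dimension. -/
theorem exists_uMap_moves {T : Submodule F (ι → F)} (hT : Module.finrank F T = r)
    (hne : T ≠ kline K v) :
    ∃ e ∈ H, ∃ p : K, (∀ x, (e : Matrix ι ι F) *ᵥ x = uMap G v w p x) ∧
      ∃ x ∈ T, (e : Matrix ι ι F) *ᵥ x ∉ T := by
  letI : Field K := (isField_of D.hK D.one_le).toField
  by_contra hc
  have hst : ∀ p : K, ∀ x ∈ T, uMap G v w p x ∈ T := fun p x hx => by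
    obtain ⟨e, he, hex⟩ := exists_uMap D G Φ p
    by_contra h
    exact hc ⟨e, he, p, hex, x, hx, by rwa [hex]⟩
  have hL : ¬ kline K v ≤ T := fun h => hne (Submodule.eq_of_le_of_finrank_eq h
    (by rw [finrank_kline D.hK (v_ne_zero D G Φ), hT])).symm
  refine hne (Submodule.eq_of_le_of_finrank_eq (fun x hx => ?_)
    (by rw [hT, finrank_kline D.hK (v_ne_zero D G Φ)]))
  obtain ⟨N, hN⟩ : ∃ N, N = G.phi w w := ⟨_, rfl⟩
  have hN0 : N ≠ 0 := hN ▸ Φ.hw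
  have hδ : G.phi v x = 0 := by
    by_contra hδ
    refine hL ?_
    rintro _ ⟨k, rfl⟩
    have hsq : ∀ p : K, ev K v (p * p * (N * G.phi v x)) ∈ T := fun p => by
      have h := neg_mem (sub_mem (add_mem (hst p x hx) (hst (-p) x hx)) (add_mem hx hx))
      convert h using 1
      rw [uMap, uMap, ← hN, neg_mul_neg, neg_mul, neg_mul, map_neg, map_add, map_add, map_neg]
      have e := congrArg (ev K v) (half_two D.toSetting (p * p * (N * G.phi v x)))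
      rw [map_add] at e
      linear_combination (norm := module) -e
    obtain ⟨c, hc0⟩ : ∃ c, c = k * ((N * G.phi v x))⁻¹ := ⟨_, rfl⟩
    have h1 := sub_mem (hsq ((c + 1) * 2⁻¹)) (hsq ((c - 1) * 2⁻¹))
    rw [← map_sub] at h1
    convert h1 using 2
    have := twoK D.toSetting
    rw [hc0]
    field_simp
    ring
  refine mem_line_of_zero D G Φ hδ ?_
  by_contra hβ
  refine hL ?_
  rintro _ ⟨k, rfl⟩
  have h := sub_mem hx (hst (k * (G.phi w x)⁻¹) x hx)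
  convert h using 1
  rw [uMap, hδ]
  simp only [mul_zero, map_zero, smul_zero, add_zero]
  rw [mul_assoc, inv_mul_cancel₀ hβ, mul_one, sub_sub_cancel]

/-- Pulling back an element stabilising a pair. -/
theorem pair_of_stable {g e : GL ι F} (hg : g ∈ H) (he : e ∈ H) {c1 c2 : K} (hc1 : c1 ≠ 0)
    (hind : ∀ s : F, c2 ≠ s • c1)
    (hst : ∀ c ∈ Submodule.span F ({c1, c2} : Set K), ∃ d ∈ Submodule.span F ({c1, c2} : Set K),
      (e : Matrix ι ι F) *ᵥ ((g : Matrix ι ι F) *ᵥ ev K v c) = (g : Matrix ι ι F) *ᵥ ev K v d)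
    (hmove : ∃ x ∈ lineImg K g v, (e : Matrix ι ι F) *ᵥ x ∉ lineImg K g v) :
    HasPair H K v := by
  letI : Field K := (isField_of D.hK D.one_le).toField
  haveI : Module.Finite F K :=
    Module.finite_of_finrank_pos (by rw [D.hK.finrank_eq]; exact D.hr.pos)
  set n := g⁻¹ * e * g with hn
  have hnH : n ∈ H := mul_mem (mul_mem (inv_mem hg) he) hg
  set A := Submodule.span F ({c1, c2} : Set K) with hA
  have hnA : ∀ c ∈ A, ∃ d ∈ A, (n : Matrix ι ι F) *ᵥ ev K v c = ev K v d := fun c hc => by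
    obtain ⟨d, hd, h⟩ := hst c hc
    exact ⟨d, hd, by rw [hn, Units.val_mul, Units.val_mul, ← mulVec_mulVec, ← mulVec_mulVec, h,
      inv_mulVec_mulVec]⟩
  have hninv : ∀ d ∈ A, ∃ c ∈ A, ((n⁻¹ : GL ι F) : Matrix ι ι F) *ᵥ ev K v d = ev K v c := by
    have hle : (A.map (ev K v)).map (n : Matrix ι ι F).mulVecLin ≤ A.map (ev K v) := by
      rintro _ ⟨_, ⟨c, hc, rfl⟩, rfl⟩
      obtain ⟨d, hd, h⟩ := hnA c hc
      exact ⟨d, hd, h.symm⟩
    have heq := Submodule.eq_of_le_of_finrank_eq hle (finrank_map_gl n _)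
    intro d hd
    have : ev K v d ∈ (A.map (ev K v)).map (n : Matrix ι ι F).mulVecLin :=
      heq.symm ▸ Submodule.mem_map_of_mem hd
    obtain ⟨_, ⟨c, hc, rfl⟩, h⟩ := this
    refine ⟨c, hc, ?_⟩
    rw [← h, mulVecLin_apply, inv_mulVec_mulVec]
  -- the line is moved
  obtain ⟨x, hx, hxe⟩ := hmove
  obtain ⟨μ0, rfl⟩ := mem_lineImg.mp hx
  have hnL : (n : Matrix ι ι F) *ᵥ ev K v μ0 ∉ kline K v := by
    rintro ⟨ν, hν⟩
    refine hxe (mem_lineImg.mpr ⟨ν, ?_⟩)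
    rw [hν, hn, Units.val_mul, Units.val_mul, ← mulVec_mulVec, ← mulVec_mulVec, mulVec_inv_mulVec]
  have hne : lineImg K n⁻¹ v ≠ kline K v := fun he' => by
    obtain ⟨ν, hν⟩ := mem_lineImg.mp
      (show ev K v μ0 ∈ lineImg K n⁻¹ v by rw [he']; exact ⟨μ0, rfl⟩)
    exact hnL ⟨ν, by rw [← hν, mulVec_inv_mulVec]⟩
  obtain ⟨u, hu, p, hux, z, hz, hzu⟩ := exists_uMap_moves D G Φ
    (finrank_lineImg D.hK n⁻¹ (v_ne_zero D G Φ)) hne
  have hfix : ∀ c ∈ A, ((n * u * n⁻¹ * u⁻¹ : GL ι F) : Matrix ι ι F) *ᵥ ev K v c = ev K v c := by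
    intro c hc
    obtain ⟨d, hd, h⟩ := hninv c hc
    have hu' : ((u⁻¹ : GL ι F) : Matrix ι ι F) *ᵥ ev K v c = ev K v c := by
      conv_lhs => rw [← uMap_line D G Φ p c, ← hux, inv_mulVec_mulVec]
    rw [Units.val_mul, Units.val_mul, Units.val_mul, ← mulVec_mulVec, ← mulVec_mulVec,
      ← mulVec_mulVec, hu', h, hux, uMap_line D G Φ, ← h, mulVec_inv_mulVec]
  obtain ⟨μ, rfl⟩ := mem_lineImg.mp hz
  refine ⟨n * u * n⁻¹ * u⁻¹, mul_mem (mul_mem (mul_mem hnH hu) (inv_mem hnH)) (inv_mem hu), c1,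
    c2, hc1, hind, hfix c1 (Submodule.subset_span (by simp)),
    hfix c2 (Submodule.subset_span (by simp)), μ, ?_⟩
  rintro ⟨ν, hν⟩
  refine hzu (mem_lineImg.mpr ⟨ν, ?_⟩)
  have hu' : ((u⁻¹ : GL ι F) : Matrix ι ι F) *ᵥ ev K v μ = ev K v μ := by
    conv_lhs => rw [← uMap_line D G Φ p μ, ← hux, inv_mulVec_mulVec]
  rw [hν, Units.val_mul, Units.val_mul, Units.val_mul, ← mulVec_mulVec, ← mulVec_mulVec,
    ← mulVec_mulVec, hu', inv_mulVec_mulVec]

/-- An element with two eigenvectors of sign in the image. -/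
theorem sign_or_pair {g e : GL ι F} (hg : g ∈ H) (he : e ∈ H) {c1 c2 : K} (hc1 : c1 ≠ 0)
    (hind : ∀ s : F, c2 ≠ s • c1) {s1 s2 : F} (hs1 : s1 * s1 = 1) (hs2 : s2 * s2 = 1)
    (h1 : (e : Matrix ι ι F) *ᵥ ((g : Matrix ι ι F) *ᵥ ev K v c1) =
      s1 • ((g : Matrix ι ι F) *ᵥ ev K v c1))
    (h2 : (e : Matrix ι ι F) *ᵥ ((g : Matrix ι ι F) *ᵥ ev K v c2) =
      s2 • ((g : Matrix ι ι F) *ᵥ ev K v c2)) :
    PairOrRoot D G Φ.hv ∨ s1 = s2 ∧ ∀ t ∈ lineImg K g v, (e : Matrix ι ι F) *ᵥ t = s1 • t := by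
  letI : Field K := (isField_of D.hK D.one_le).toField
  by_cases hmove : ∃ x ∈ lineImg K g v, (e : Matrix ι ι F) *ᵥ x ∉ lineImg K g v
  · refine Or.inl (Or.inl (pair_of_stable D G Φ hg he hc1 hind ?_ hmove))
    intro c hc
    obtain ⟨a, b, rfl⟩ := Submodule.mem_span_pair.mp hc
    refine ⟨(a * s1) • c1 + (b * s2) • c2,
      Submodule.mem_span_pair.mpr ⟨_, _, rfl⟩, ?_⟩
    rw [map_add, map_smul, map_smul, mulVec_add, mulVec_smul, mulVec_smul, mulVec_add,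
      mulVec_smul, mulVec_smul, h1, h2, map_add, map_smul, map_smul, mulVec_add, mulVec_smul,
      mulVec_smul, smul_smul, smul_smul]
  push Not at hmove
  set n := g⁻¹ * e * g with hn
  have hnH : n ∈ H := mul_mem (mul_mem (inv_mem hg) he) hg
  let τ : K →ₗ[F] K := G.phi v' ∘ₗ (n : Matrix ι ι F).mulVecLin ∘ₗ ev K v
  have hτ : ∀ μ, (n : Matrix ι ι F) *ᵥ ev K v μ = ev K v (τ μ) := by
    intro μ
    obtain ⟨ν, hν⟩ := mem_lineImg.mp (hmove _ (mem_lineImg.mpr ⟨μ, rfl⟩))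
    have e1 : (n : Matrix ι ι F) *ᵥ ev K v μ = ev K v ν := by
      rw [hn, Units.val_mul, Units.val_mul, ← mulVec_mulVec, ← mulVec_mulVec, ← hν,
        inv_mulVec_mulVec]
    have e2 : τ μ = ν := by
      show G.phi v' ((n : Matrix ι ι F) *ᵥ ev K v μ) = ν
      rw [e1, phi_ev D.hK (G.klin v'), phi_v'_v D G Φ, mul_one]
    rw [e2, e1]
  rcases semilinear_or_root D G Φ hnH hτ with hroot | ⟨σ, hσ⟩
  · exact Or.inl (Or.inr hroot)
  have hτc : ∀ (c : K) (s : F), (e : Matrix ι ι F) *ᵥ ((g : Matrix ι ι F) *ᵥ ev K v c) =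
      s • ((g : Matrix ι ι F) *ᵥ ev K v c) → τ c = s • c := fun c s h => by
    refine ev_injective D.hK (v_ne_zero D G Φ) ?_
    rw [← hτ, hn, Units.val_mul, Units.val_mul, ← mulVec_mulVec, ← mulVec_mulVec, h, mulVec_smul,
      inv_mulVec_mulVec, map_smul]
  have hτ0 : τ 1 ≠ 0 := fun h => one_ne_zero ((tau_bijective D G Φ hnH hτ).1
    (h.trans (map_zero τ).symm))
  have hsign := eq_sign_of_semilinear D hσ hτ0 hs1 hs2 (hτc _ _ h1) (hτc _ _ h2) hind hc1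
  refine Or.inr ⟨?_, fun t ht => ?_⟩
  · have hc2 : c2 ≠ 0 := fun h => hind 0 (by rw [h, zero_smul])
    exact smul_left_injective F hc2 ((hsign c2).symm.trans (hτc _ _ h2))
  · obtain ⟨μ, rfl⟩ := mem_lineImg.mp ht
    refine mulVec_injective g⁻¹ ?_
    show ((g⁻¹ : GL ι F) : Matrix ι ι F) *ᵥ _ = ((g⁻¹ : GL ι F) : Matrix ι ι F) *ᵥ _
    rw [mulVec_smul, inv_mulVec_mulVec, mulVec_mulVec, mulVec_mulVec,
      ← Units.val_mul, ← Units.val_mul, ← hn, hτ, hsign, map_smul]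

end Cfsg.Agent.ExtFieldMax.Orth.Three
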