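import Cfsg.Agent.ExtFieldMax.Orth.Three.Stab

/-!
Reflections, involutions and determinant facts for field forms of odd degree (helper98).
-/

set_option autoImplicit false

namespace Cfsg.Agent.ExtFieldMax.Orth.Three

open Matrix Cfsg.Agent.MaxSub
open scoped commutatorElement

section Field

variable {F E : Type*} [Field F] [Finite F] [Field E] [Algebra F E] [FiniteDimensional F E]

/-- The determinant of the form `(a, b) ↦ θ(n a b)`. -/
theorem gram_det_ne_zero (θ : E →ₗ[F] F) (hθ : ∀ a, (∀ k, θ (k * a) = 0) → a = 0) {n : E}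
    (hn : n ≠ 0) :
    (Matrix.of fun i j => θ (n * Module.finBasis F E i * Module.finBasis F E j)).det ≠ 0 := by
  classical
  intro h0
  obtain ⟨x, hx, hx0⟩ := Matrix.exists_mulVec_eq_zero_iff.mpr h0
  set b := Module.finBasis F E
  obtain ⟨y, hy⟩ : ∃ y, y = b.equivFun.symm x := ⟨_, rfl⟩
  have hy0 : y = 0 := by
    refine mul_left_cancel₀ hn ?_
    rw [mul_zero]
    refine hθ _ fun k => ?_
    have hk : ∀ i, θ (b i * (n * y)) = 0 := fun i => by
      have := congrFun hx0 i
      simp only [Matrix.mulVec, dotProduct, Matrix.of_apply, Pi.zero_apply] at this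
      rw [← this, hy, Module.Basis.equivFun_symm_apply, Finset.mul_sum, Finset.mul_sum, map_sum]
      refine Finset.sum_congr rfl fun j _ => ?_
      rw [mul_smul_comm, mul_smul_comm, map_smul, smul_eq_mul, mul_comm (θ (n * b i * b j))]
      congr 2
      ring
    rw [← b.sum_repr k, Finset.sum_mul, map_sum]
    refine Finset.sum_eq_zero fun i _ => ?_
    rw [smul_mul_assoc, map_smul, hk, smul_zero]
  exact hx (b.equivFun.symm.injective (by rw [← hy, hy0, map_zero]))

theorem gram_apply (θ : E →ₗ[F] F) (n : E) (A B : E →ₗ[F] E)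
    (i j : Fin (Module.finrank F E)) :
    ((LinearMap.toMatrix (Module.finBasis F E) (Module.finBasis F E) A).transpose *
      (Matrix.of fun i j => θ (n * Module.finBasis F E i * Module.finBasis F E j)) *
      LinearMap.toMatrix (Module.finBasis F E) (Module.finBasis F E) B) i j =
    θ (n * A (Module.finBasis F E i) * B (Module.finBasis F E j)) := by
  classical
  set b := Module.finBasis F E
  rw [← b.sum_repr (A (b i)), ← b.sum_repr (B (b j))]
  simp only [Matrix.mul_apply, Matrix.transpose_apply, LinearMap.toMatrix_apply, Matrix.of_apply,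
    Finset.sum_mul, Finset.mul_sum, map_sum, mul_smul_comm, smul_mul_assoc, map_smul,
    smul_eq_mul, Finsupp.coe_finsetSum, Finset.sum_apply]
  refine Finset.sum_congr rfl fun k _ => Finset.sum_congr rfl fun l _ => ?_
  ring

/-- No anti-isometry in odd degree without a square root of minus one. -/
theorem isSquare_neg_one_of_antiisom (θ : E →ₗ[F] F) (hθ : ∀ a, (∀ k, θ (k * a) = 0) → a = 0)
    (hodd : Odd (Module.finrank F E)) {n : E} (hn : n ≠ 0) {Λ : E →ₗ[F] E}
    (h : ∀ a b, θ (n * (a * b + Λ a * Λ b)) = 0) : IsSquare (-1 : F) := by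
  classical
  set b := Module.finBasis F E
  set Gm : Matrix _ _ F := Matrix.of fun i j => θ (n * b i * b j) with hG
  have h1 : (LinearMap.toMatrix b b Λ).transpose * Gm * LinearMap.toMatrix b b Λ = (-1 : F) • Gm := by
    ext i j
    rw [gram_apply, Matrix.smul_apply, hG, Matrix.of_apply, smul_eq_mul]
    have h2 := h (b i) (b j)
    rw [mul_add, map_add, ← mul_assoc, ← mul_assoc] at h2
    linear_combination h2
  have h2 := congrArg Matrix.det h1
  rw [Matrix.det_mul, Matrix.det_mul, Matrix.det_transpose, Matrix.det_smul, Fintype.card_fin,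
    hodd.neg_one_pow] at h2
  have h3 := gram_det_ne_zero θ hθ hn
  exact ⟨(LinearMap.toMatrix b b Λ).det, mul_right_cancel₀ h3 (by linear_combination -h2)⟩

/-- A skew map of odd degree is singular. -/
theorem exists_ker_of_skew (θ : E →ₗ[F] F) (hθ : ∀ a, (∀ k, θ (k * a) = 0) → a = 0)
    (h2F : (2 : F) ≠ 0) (hodd : Odd (Module.finrank F E)) {Λ : E →ₗ[F] E}
    (h : ∀ a b, θ (a * Λ b + b * Λ a) = 0) : ∃ a, a ≠ 0 ∧ Λ a = 0 := by
  classical
  set b := Module.finBasis F E
  set Gm : Matrix _ _ F := Matrix.of fun i j => θ (1 * b i * b j) with hG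
  have h1 : (LinearMap.toMatrix b b Λ).transpose * Gm =
      (-1 : F) • (Gm * LinearMap.toMatrix b b Λ) := by
    ext i j
    have e1 := gram_apply θ 1 Λ LinearMap.id i j
    have e2 := gram_apply θ 1 LinearMap.id Λ i j
    rw [LinearMap.toMatrix_id, Matrix.mul_one] at e1
    rw [LinearMap.toMatrix_id, Matrix.transpose_one, Matrix.one_mul] at e2
    rw [Matrix.smul_apply, e1, e2, LinearMap.id_apply, LinearMap.id_apply, one_mul, one_mul,
      smul_eq_mul]
    have h3 := h (b i) (b j)
    rw [map_add, mul_comm (b j)] at h3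
    linear_combination h3
  have h2 := congrArg Matrix.det h1
  rw [Matrix.det_mul, Matrix.det_smul, Matrix.det_mul, Matrix.det_transpose, Fintype.card_fin,
    hodd.neg_one_pow] at h2
  have h3 : (LinearMap.toMatrix b b Λ).det = 0 := by
    have h4 : (2 : F) * Gm.det * (LinearMap.toMatrix b b Λ).det = 0 := by linear_combination h2
    exact (mul_eq_zero.mp h4).resolve_left
      (mul_ne_zero h2F (gram_det_ne_zero θ hθ one_ne_zero))
  rw [LinearMap.det_toMatrix] at h3
  obtain ⟨a, ha, ha0⟩ := Submodule.exists_mem_ne_zero_of_ne_bot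
    (LinearMap.bot_lt_ker_of_det_eq_zero h3).ne'
  exact ⟨a, ha0, ha⟩

omit [Algebra F E] [FiniteDimensional F E] in
/-- Among three elements two have a square product. -/
theorem exists_square_pair [Fintype E] {a b c : E} (ha : a ≠ 0) (hb : b ≠ 0) (hc : c ≠ 0) :
    IsSquare (a * b) ∨ IsSquare (a * c) ∨ IsSquare (b * c) := by
  classical
  by_contra h
  push Not at h
  obtain ⟨h1, h2, h3⟩ := h
  have e : quadraticChar E (a * b) * quadraticChar E (a * c) = quadraticChar E (b * c) := by
    rw [← map_mul, show a * b * (a * c) = a * a * (b * c) by ring, map_mul, map_mul,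
      ← _root_.sq, quadraticChar_sq_one ha, one_mul]
  rw [quadraticChar_neg_one_iff_not_isSquare.mpr h1, quadraticChar_neg_one_iff_not_isSquare.mpr h2,
    quadraticChar_neg_one_iff_not_isSquare.mpr h3] at e
  exact absurd e (by decide)

end Field

variable {ι : Type} [Fintype ι] [DecidableEq ι] {F : Type*} [Field F] [Finite F]
variable {f : (ι → F) → (ι → F) → F} {K : Subalgebra F (Matrix ι ι F)} {r : ℕ}
variable {H : Subgroup (GL ι F)} (D : Dim3 f K r H) (G : Sp.KForm f K)
include D

omit [Finite F] in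
theorem phi_comm {g : GL ι F} (hg : g ∈ H) (hc : Comm K g) (x y : ι → F) :
    G.phi ((g : Matrix ι ι F) *ᵥ x) ((g : Matrix ι ι F) *ᵥ y) = G.phi x y :=
  Sp.phi_ext G fun k => by
    rw [G.spec, G.spec, ← hc, isom_form D.toSetting hg]

omit [Finite F] in
/-- Two orthogonal vectors with norms in one square class give an involution. -/
theorem exists_involution {a b : ι → F} (ha : G.phi a a ≠ 0) (hb : G.phi b b ≠ 0)
    (hab : G.phi a b = 0) (hsq : IsSquare (G.phi a a * G.phi b b)) :
    ∃ i ∈ H, Comm K i ∧ (i : Matrix ι ι F) *ᵥ a = -a ∧ (i : Matrix ι ι F) *ᵥ b = -b ∧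
      ∀ x, G.phi a x = 0 → G.phi b x = 0 → (i : Matrix ι ι F) *ᵥ x = x := by
  letI : Field K := (isField_of D.hK D.one_le).toField
  obtain ⟨s, hs⟩ := hsq
  obtain ⟨k, hk⟩ : ∃ k, k = s * (G.phi b b)⁻¹ := ⟨_, rfl⟩
  have hs0 : s ≠ 0 := left_ne_zero_of_mul (hs ▸ mul_ne_zero ha hb)
  have hk0 : k ≠ 0 := hk ▸ mul_ne_zero hs0 (inv_ne_zero hb)
  obtain ⟨b', hb'⟩ : ∃ b', b' = ev K b k := ⟨_, rfl⟩
  have hab' : G.phi a b' = 0 := by rw [hb', phi_ev D.hK (G.klin a), hab, mul_zero]
  have hb'n : G.phi b' b' = G.phi a a := by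
    rw [hb', phi_ev_left D.toSetting G, phi_ev D.hK (G.klin b), hk]
    field_simp
    linear_combination -hs
  have hcn : G.phi (a + b') (a + b') = 2 * G.phi a a := by
    rw [norm_add D.toSetting G, hab', hb'n]; ring
  obtain ⟨ra, ha1, ha2, ca, hca, hax⟩ := exists_refl D.toSetting G ha
  obtain ⟨rc, hc1, hc2, cc, hcc, hcx⟩ := exists_refl D.toSetting G (a := a + b')
    (by rw [hcn]; exact mul_ne_zero (twoK D.toSetting) ha)
  have invol : ∀ (g : GL ι F) (p : ι → F) (cp : K), cp * G.phi p p = 2 →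
      (∀ y, (g : Matrix ι ι F) *ᵥ y = y - ev K p (cp * G.phi p y)) →
      ∀ y, ((g⁻¹ : GL ι F) : Matrix ι ι F) *ᵥ y = (g : Matrix ι ι F) *ᵥ y := by
    intro g p cp hcp hg y
    refine mulVec_injective g ?_
    show (g : Matrix ι ι F) *ᵥ _ = (g : Matrix ι ι F) *ᵥ _
    rw [mulVec_inv_mulVec, hg y, hg (y - _), map_sub, phi_ev D.hK (G.klin p),
      show cp * (G.phi p y - cp * G.phi p y * G.phi p p) = -(cp * G.phi p y) by
        linear_combination (-(cp * G.phi p y)) * hcp, map_neg]
    abel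
  have hiapp : ∀ y, ((⁅ra, rc⁆ : GL ι F) : Matrix ι ι F) *ᵥ y = (ra : Matrix ι ι F) *ᵥ
      ((rc : Matrix ι ι F) *ᵥ ((ra : Matrix ι ι F) *ᵥ ((rc : Matrix ι ι F) *ᵥ y))) := fun y => by
    rw [commutatorElement_def, Units.val_mul, Units.val_mul, Units.val_mul, ← mulVec_mulVec,
      ← mulVec_mulVec, ← mulVec_mulVec, invol rc _ cc hcc hcx, invol ra a ca hca hax]
  have r1 : (rc : Matrix ι ι F) *ᵥ a = -b' := by
    rw [hcx, phi_add D.toSetting G, phi_symm D.toSetting G b' a, hab', add_zero,
      show cc * G.phi a a = 1 by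
        rw [hcn] at hcc
        exact mul_right_cancel₀ (twoK D.toSetting) (by rw [one_mul]; linear_combination hcc),
      ev_one]
    abel
  have r2 : (rc : Matrix ι ι F) *ᵥ b' = -a := by
    rw [hcx, phi_add D.toSetting G, hab', zero_add, hb'n,
      show cc * G.phi a a = 1 by
        rw [hcn] at hcc
        exact mul_right_cancel₀ (twoK D.toSetting) (by rw [one_mul]; linear_combination hcc),
      ev_one]
    abel
  have r3 : (ra : Matrix ι ι F) *ᵥ a = -a := by
    rw [hax, hca, show ev K a 2 = a + a by rw [← one_add_one_eq_two, map_add, ev_one]]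
    abel
  have r4 : (ra : Matrix ι ι F) *ᵥ b' = b' := by
    rw [hax, hab', mul_zero, map_zero, sub_zero]
  have hcomm : Comm K ⁅ra, rc⁆ := (ha2.mul hc2).mul ha2.inv |>.mul hc2.inv
  refine ⟨⁅ra, rc⁆, D.comm_mem ra rc ha1 ha2 hc1 hc2, hcomm, ?_, ?_, fun x hx hx' => ?_⟩
  · rw [hiapp, r1, mulVec_neg, mulVec_neg, mulVec_neg, r4, r2, mulVec_neg, r3]
    abel
  · have e : b = ev K b' k⁻¹ := by
      rw [hb', ev_apply (ev K b k), ← ev_mul, inv_mul_cancel₀ hk0, ev_one]
    rw [e, ev_apply b', hcomm, hiapp, r2]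
    simp only [mulVec_neg, r3, neg_neg, r1, r4]
  · have hc' : G.phi (a + b') x = 0 := by
      rw [phi_add D.toSetting G, hx, hb', phi_ev_left D.toSetting G, hx', mul_zero, add_zero]
    have e1 : (rc : Matrix ι ι F) *ᵥ x = x := by rw [hcx, hc', mul_zero, map_zero, sub_zero]
    have e2 : (ra : Matrix ι ι F) *ᵥ x = x := by rw [hax, hx, mul_zero, map_zero, sub_zero]
    rw [hiapp, e1, e2, e1, e2]

end Cfsg.Agent.ExtFieldMax.Orth.Three
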