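import Cfsg.Agent.ExtFieldMax.Orth.Three.Transvection

/-!
All root elements in dimension three over the field (helper98).
-/

set_option autoImplicit false

namespace Cfsg.Agent.ExtFieldMax.Orth.Three

open Matrix Cfsg.Agent.MaxSub

/-- A skew map in dimension three is a skew map of rank two. -/
theorem exists_skewMap_eq {E : Type*} [Field E] {F : Type*} [Field F] [Finite F] [Algebra F E]
    [FiniteDimensional F E] (h3 : Module.finrank F E = 3) (h2 : (2 : F) ≠ 0) (θ : E →ₗ[F] F)
    (hθ : ∀ a, (∀ k, θ (k * a) = 0) → a = 0) {ψ : E →ₗ[F] E}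
    (hskew : ∀ a b, θ (a * ψ b) = -θ (b * ψ a)) (hne : ψ ≠ 0) :
    ∃ κ b : E, κ ≠ 0 ∧ (∀ s : F, b ≠ s • κ) ∧ ∃ t : F, skewMap θ κ b = t • ψ := by
  obtain ⟨a, ha0, ha⟩ := exists_ker_of_skew θ hθ h2 (by rw [h3]; decide) (Λ := ψ) fun a b => by
    rw [map_add, hskew a b, neg_add_cancel]
  obtain ⟨c, d, hcd⟩ : ∃ c d, θ (c * ψ d) ≠ 0 := by
    by_contra hc
    push Not at hc
    exact hne (LinearMap.ext fun d => hθ _ fun k => hc k d)
  have hself : ∀ z, θ (z * ψ z) = 0 := fun z => by
    have h : (2 : F) * θ (z * ψ z) = 0 := by linear_combination hskew z z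
    exact (mul_eq_zero.mp h).resolve_left h2
  have haψ : ∀ z, θ (a * ψ z) = 0 := fun z => by rw [hskew, ha, mul_zero, map_zero, neg_zero]
  refine ⟨ψ c, ψ d, fun h => hcd ?_, fun s hs => hcd ?_, -θ (c * ψ d), ?_⟩
  · rw [hskew, h, mul_zero, map_zero, neg_zero]
  · rw [hs, mul_smul_comm, map_smul, hself, smul_zero]
  · have hli : LinearIndependent F ![a, c, d] := by
      rw [Fintype.linearIndependent_iff]
      intro g hg
      simp only [Fin.sum_univ_three, Matrix.cons_val_zero, Matrix.cons_val_one,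
        Matrix.cons_val_two, Matrix.head_cons, Matrix.tail_cons] at hg
      have hd := congrArg (fun z => θ (c * ψ z)) hg
      have hc := congrArg (fun z => θ (d * ψ z)) hg
      simp only [map_add, map_smul, mul_add, mul_smul_comm, ha, mul_zero, smul_zero, map_zero,
        hself, zero_add, add_zero, smul_eq_mul] at hd hc
      have g2 := (mul_eq_zero.mp hd).resolve_right hcd
      have g1 := (mul_eq_zero.mp hc).resolve_right (by rw [hskew]; exact neg_ne_zero.mpr hcd)
      rw [g1, g2, zero_smul, zero_smul, add_zero, add_zero] at hg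
      have g0 := (smul_eq_zero.mp hg).resolve_right ha0
      exact Fin.forall_fin_succ.mpr ⟨g0, Fin.forall_fin_two.mpr ⟨g1, g2⟩⟩
    refine LinearMap.ext_on_range (hli.span_eq_top_of_card_eq_finrank
      (by rw [Fintype.card_fin, h3])) fun i => ?_
    have e : θ (ψ c * d) = -θ (c * ψ d) := by rw [mul_comm, hskew]
    have e' : ∀ z, θ (ψ z * a) = 0 := fun z => by rw [mul_comm, haψ]
    have e'' : ∀ z, θ (ψ z * z) = 0 := fun z => by rw [mul_comm, hself]
    fin_cases i
    · simp [skewMap_apply, e', ha]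
    · simp [skewMap_apply, e'', mul_comm (ψ d) c]
    · simp [skewMap_apply, e'', e]

variable {ι : Type} [Fintype ι] [DecidableEq ι] {F : Type*} [Field F] [Finite F]
variable {f : (ι → F) → (ι → F) → F} {K : Subalgebra F (Matrix ι ι F)} {r : ℕ}
variable {H : Subgroup (GL ι F)} (D : Dim3 f K r H) (G : Sp.KForm f K)
include D

/-- All skew root maps. -/
theorem root_mem3 {v : ι → F} (hv : G.phi v v = 0)
    (hn' : ∃ g ∈ H, ∃ (x : ι → F), G.phi x x = 0 ∧ ∃ k : K,
      (g : Matrix ι ι F) *ᵥ ((k : Matrix ι ι F) *ᵥ x) ∉ kline K ((g : Matrix ι ι F) *ᵥ x))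
    (p q : K) : ∃ g ∈ H, ∀ x, (g : Matrix ι ι F) *ᵥ x =
      x + ev K v (skewMap G.theta p q (G.phi v x)) := by
  classical
  rcases eq_or_ne v 0 with rfl | hv0
  · exact ⟨1, one_mem H, fun x => by simp⟩
  letI : Field K := (isField_of D.hK D.one_le).toField
  haveI : Module.Finite F K :=
    Module.finite_of_finrank_pos (by rw [D.hK.finrank_eq]; exact D.hr.pos)
  obtain ⟨v', w, Φ⟩ := exists_frame D G hv hv0
  obtain ⟨κ, b, hκ, hind, hκb⟩ : ∃ κ b : K, κ ≠ 0 ∧ (∀ s : F, b ≠ s • κ) ∧
      ∀ s : F, s • skewMap G.theta κ b ∈ rootMaps D.toSetting G H hv := by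
    rcases Nat.lt_or_ge r 5 with h35 | h5
    · have hr3 : r = 3 := by
        have h3 := D.three
        have hp := D.hr
        interval_cases r
        · rfl
        · exact absurd hp (by norm_num)
      obtain ⟨ψ, hψ, hne⟩ := root_exists D G Φ hn'
      obtain ⟨κ, b, hκ, hind, t, ht⟩ := exists_skewMap_eq (by rw [D.hK.finrank_eq, hr3]) D.two
        G.theta G.sep (skew_of_mem D G Φ hψ) hne
      refine ⟨κ, b, hκ, hind, fun s => ?_⟩
      rw [ht, smul_smul]
      exact hψ _
    -- larger degree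
    obtain ⟨g, hg, τ, lam, π, hlam, hπ, hgv, hτ⟩ := exists_transvection D G Φ h5 hn'
    -- the rank two maps
    have hD : ∀ ψ ∈ skewSpace D G Φ.hv,
        skewMap G.theta π (ψ lam) ∈ rootMaps D.toSetting G H hv := by
      intro ψ hψ
      obtain ⟨X, hX, hXx⟩ := exists_root_elt D G Φ hψ
      have hdual : ∀ x, G.phi v (((g⁻¹ : GL ι F) : Matrix ι ι F) *ᵥ x) =
          G.phi v x + G.theta (π * G.phi v x) • lam := fun x => Sp.phi_ext G fun μ => by
        rw [← spec_right D.toSetting G, ← isom_form D.toSetting hg, mulVec_inv_mulVec, hgv, hτ,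
          spec_right D.toSetting G, add_mul, map_add, smul_mul_assoc, map_smul, mul_add, map_add,
          mul_smul_comm, map_smul, smul_eq_mul, smul_eq_mul, kmul_comm D.hK μ lam, mul_comm μ]
        ring
      have h1 : skewMap G.theta π (ψ lam) + ψ ∈ rootMaps D.toSetting G H hv := by
        refine ⟨g * X * g⁻¹, mul_mem (mul_mem hg hX) (inv_mem hg), fun x => ?_⟩
        have h2 := skew_of_mem D G Φ hψ lam lam
        have h3 : G.theta (lam * ψ lam) = 0 := by
          have : (2 : F) * G.theta (lam * ψ lam) = 0 := by linear_combination h2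
          exact (mul_eq_zero.mp this).resolve_left D.two
        have h4 := skew_of_mem D G Φ hψ lam (G.phi v x)
        rw [Units.val_mul, Units.val_mul, ← mulVec_mulVec, ← mulVec_mulVec, hXx, mulVec_add,
          mulVec_inv_mulVec, hgv, hdual, hτ, map_add ψ, map_smul ψ, mul_add lam,
          map_add G.theta, mul_smul_comm, map_smul G.theta, h3, smul_zero, add_zero, h4,
          LinearMap.add_apply, skewMap_apply, kmul_comm D.hK (ψ lam)]
        congr 2
        module
      have h5 : ψ ∈ rootMaps D.toSetting G H hv := by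
        have := hψ 1
        rwa [one_smul] at this
      have := sub_mem h1 h5
      rwa [add_sub_cancel_right] at this
    -- a good choice
    obtain ⟨ψ, hψ, hind⟩ : ∃ ψ ∈ skewSpace D G Φ.hv, ∀ s : F, ψ lam ≠ s • π := by
      by_contra hc
      push Not at hc
      obtain ⟨ψ, hψ, hne⟩ := root_exists D G Φ hn'
      let χ : K →ₗ[F] F := G.theta ∘ₗ LinearMap.mulLeft F (π * lam)
      obtain ⟨η, hη, hη1⟩ : ∃ η ∈ LinearMap.ker χ, η ∉ Submodule.span F {(1 : K)} := by
        by_contra hc'
        push Not at hc'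
        have h1 := Submodule.finrank_mono (show LinearMap.ker χ ≤ Submodule.span F {(1 : K)} from hc')
        have h2 := LinearMap.finrank_range_add_finrank_ker χ
        have h3 := (LinearMap.range χ).finrank_le
        have h4 : Module.finrank F (Submodule.span F {(1 : K)}) ≤ 1 :=
          (finrank_span_le_card _).trans (by simp)
        rw [Module.finrank_self] at h3
        rw [D.hK.finrank_eq] at h2
        omega
      refine hne (skew_eq_zero (by rw [D.hK.finrank_eq]; exact D.hr) D.two G.theta G.sep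
        (skew_of_mem D G Φ hψ) (a := η) (fun s hs => hη1 (Submodule.mem_span_singleton.mpr
          ⟨s, by rw [hs, Algebra.smul_def, mul_one]⟩)) fun y => ?_)
      obtain ⟨s, hs⟩ := hc _ (conj_mem D G Φ (y * lam⁻¹) hψ)
      simp only [LinearMap.comp_apply, LinearMap.mulLeft_apply, mul_assoc, inv_mul_cancel₀ hlam,
        mul_one] at hs
      have h5 : η * y * ψ y = s • (π * lam * η) := by
        rw [← smul_mul_assoc, ← smul_mul_assoc, ← hs]
        field_simp
      rw [h5, map_smul, show G.theta (π * lam * η) = 0 from hη, smul_zero]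
    refine ⟨π, ψ lam, hπ, hind, fun s => ?_⟩
    have h := hD _ ((skewSpace D G Φ.hv).smul_mem s hψ)
    convert h using 1
    refine LinearMap.ext fun y => ?_
    simp only [LinearMap.smul_apply, skewMap_apply, smul_mul_assoc, map_smul, smul_eq_mul]
    module
  refine skewMap_mem (D.hK.finrank_eq.symm ▸ D.hr) D.two G.theta
    (M := rootMaps D.toSetting G H hv) ?_ hκ hind hκb p q
  · rintro e he ψ ⟨t, ht, htx⟩
    obtain ⟨d, hd, hdc, hdv⟩ := exists_scale D.toSetting G Φ.hv Φ.hv' Φ.hvv' he
    refine ⟨d * t * d⁻¹, mul_mem (mul_mem hd ht) (inv_mem hd), fun x => ?_⟩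
    obtain ⟨x0, rfl⟩ : ∃ x0, (d : Matrix ι ι F) *ᵥ x0 = x := ⟨_, mulVec_inv_mulVec d x⟩
    have hφ : G.phi v x0 = e * e * G.phi v ((d : Matrix ι ι F) *ᵥ x0) := by
      rw [← phi_ev_left D.toSetting G, ← hdv]
      refine Sp.phi_ext G fun k => ?_
      rw [← spec_right D.toSetting G, ← spec_right D.toSetting G, ev_apply, ev_apply, ← hdc,
        isom_form D.toSetting hd]
    rw [Units.val_mul, Units.val_mul, ← mulVec_mulVec, ← mulVec_mulVec, inv_mulVec_mulVec, htx,
      mulVec_add, hφ, ev_apply v, hdc, hdv, ← ev_mul]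
    simp only [LinearMap.comp_apply, LinearMap.mulLeft_apply]
    rw [kmul_comm D.hK (ψ _)]

end Cfsg.Agent.ExtFieldMax.Orth.Three
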