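import Cfsg.Agent.ExtFieldMax.Orth.Three.Frame
import Mathlib.LinearAlgebra.Matrix.SchurComplement
import Mathlib.Algebra.CharP.Lemmas

/-!
Elements stabilising an isotropic line in dimension three over the field (helper98).
-/

set_option autoImplicit false

namespace Cfsg.Agent.ExtFieldMax.Orth.Three

open Matrix Cfsg.Agent.MaxSub

variable {ι : Type} [Fintype ι] [DecidableEq ι] {F : Type*} [Field F] [Finite F]
variable {f : (ι → F) → (ι → F) → F} {K : Subalgebra F (Matrix ι ι F)} {r : ℕ}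
variable {H : Subgroup (GL ι F)} (D : Dim3 f K r H) (G : Sp.KForm f K)

/-- The maps giving root elements with all their scalar multiples. -/
def skewSpace {v : ι → F} (hv : G.phi v v = 0) : Submodule F (K →ₗ[F] K) where
  carrier := {ψ | ∀ s : F, s • ψ ∈ rootMaps D.toSetting G H hv}
  add_mem' := fun {a b} ha hb s => by rw [smul_add]; exact add_mem (ha s) (hb s)
  zero_mem' := fun s => by rw [smul_zero]; exact zero_mem _
  smul_mem' := fun c a ha s => by rw [smul_smul]; exact ha _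

variable {v v' w : ι → F} (Φ : Frame G v v' w)

theorem conj_mem (x : K) {ψ : K →ₗ[F] K} (hψ : ψ ∈ skewSpace D G Φ.hv) :
    LinearMap.mulLeft F x ∘ₗ ψ ∘ₗ LinearMap.mulLeft F x ∈ skewSpace D G Φ.hv := by
  letI : Field K := (isField_of D.hK D.one_le).toField
  haveI : Module.Finite F K :=
    Module.finite_of_finrank_pos (by rw [D.hK.finrank_eq]; exact D.hr.pos)
  rcases eq_or_ne x 0 with rfl | hx
  · convert (skewSpace D G Φ.hv).zero_mem using 1
    exact LinearMap.ext fun y => by simp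
  obtain ⟨c, e, he, rfl⟩ := exists_smul_sq (E := K) D.two
    (by rw [D.hK.finrank_eq]; exact odd_r D) hx
  intro s
  obtain ⟨t, ht, htx⟩ := hψ (s * (c * c))
  obtain ⟨d, hd, hdc, hdv⟩ := exists_scale D.toSetting G Φ.hv Φ.hv' Φ.hvv' he
  refine ⟨d * t * d⁻¹, mul_mem (mul_mem hd ht) (inv_mem hd), fun x => ?_⟩
  obtain ⟨x0, rfl⟩ : ∃ x0, (d : Matrix ι ι F) *ᵥ x0 = x := ⟨_, mulVec_inv_mulVec d x⟩
  have hφ : G.phi v x0 = e * e * G.phi v ((d : Matrix ι ι F) *ᵥ x0) := by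
    rw [← phi_ev_left D.toSetting G, ← hdv]
    refine Sp.phi_ext G fun k => ?_
    rw [← spec_right D.toSetting G, ← spec_right D.toSetting G, ev_apply, ev_apply, ← hdc,
      isom_form D.toSetting hd]
  rw [Units.val_mul, Units.val_mul, ← mulVec_mulVec, ← mulVec_mulVec, inv_mulVec_mulVec, htx,
    mulVec_add, hφ, ev_apply v, hdc, hdv, ← ev_mul]
  simp only [LinearMap.comp_apply, LinearMap.mulLeft_apply, LinearMap.smul_apply, map_smul,
    smul_mul_assoc, mul_smul_comm, smul_smul]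
  rw [kmul_comm D.hK (ψ _) (e * e)]

include D in
omit [Finite F] in
/-- A map with symmetric translates is linear over the field. -/
theorem klin_of_symm {A : K →ₗ[F] K}
    (h : ∀ k a b : K, G.theta (a * A (k * b)) = G.theta (b * A (k * a))) (y : K) :
    A y = y * A 1 := by
  letI : Field K := (isField_of D.hK D.one_le).toField
  have h1 : ∀ a b : K, G.theta (a * A b) = G.theta (b * A a) := fun a b => by
    simpa using h 1 a b
  refine Sp.phi_ext G fun k => ?_
  have e1 := h y k 1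
  rw [mul_one] at e1
  rw [e1, one_mul]
  have e2 := h1 1 (y * k)
  rw [one_mul] at e2
  rw [e2]
  congr 1
  ring

variable {g : GL ι F} (hg : g ∈ H) {τ : K →ₗ[F] K}
variable (hτ : ∀ μ, (g : Matrix ι ι F) *ᵥ ev K v μ = ev K v (τ μ))
include D Φ hg hτ

theorem tau_bijective : Function.Bijective τ := by
  haveI : Module.Finite F K :=
    Module.finite_of_finrank_pos (by rw [D.hK.finrank_eq]; exact D.hr.pos)
  have hinj : Function.Injective τ := fun a b h => ev_injective D.hK (v_ne_zero D G Φ)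
    (mulVec_injective g (by
      show (g : Matrix ι ι F) *ᵥ _ = (g : Matrix ι ι F) *ᵥ _
      rw [hτ, hτ, h]))
  exact ⟨hinj, LinearMap.injective_iff_surjective.mp hinj⟩

theorem inv_line (μ : K) :
    ∃ ν, τ ν = μ ∧ ((g⁻¹ : GL ι F) : Matrix ι ι F) *ᵥ ev K v μ = ev K v ν := by
  obtain ⟨ν, rfl⟩ := (tau_bijective D G Φ hg hτ).2 μ
  exact ⟨ν, rfl, by rw [← hτ, inv_mulVec_mulVec]⟩

omit [Finite F] in
theorem theta_inv (μ : K) (x : ι → F) :
    G.theta (μ * G.phi v (((g⁻¹ : GL ι F) : Matrix ι ι F) *ᵥ x)) =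
      G.theta (τ μ * G.phi v x) := by
  rw [← spec_right D.toSetting G, ← spec_right D.toSetting G,
    ← isom_form D.toSetting hg, mulVec_inv_mulVec, hτ]

theorem perp_inv {x : ι → F} (hx : G.phi v x = 0) :
    G.phi v (((g⁻¹ : GL ι F) : Matrix ι ι F) *ᵥ x) = 0 :=
  G.sep _ fun μ => by rw [theta_inv D G Φ hg hτ, hx, mul_zero, map_zero]

theorem perp_fwd {x : ι → F} (hx : G.phi v x = 0) :
    G.phi v ((g : Matrix ι ι F) *ᵥ x) = 0 := by
  refine G.sep _ fun μ => ?_
  obtain ⟨ν, rfl⟩ := (tau_bijective D G Φ hg hτ).2 μ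
  rw [← theta_inv D G Φ hg hτ, inv_mulVec_mulVec, hx, mul_zero, map_zero]

omit [Finite F] hτ in
theorem theta_gamma (a b : K) :
    G.theta (a * G.phi w (((g⁻¹ : GL ι F) : Matrix ι ι F) *ᵥ ev K w b)) =
      G.theta (b * G.phi w ((g : Matrix ι ι F) *ᵥ ev K w a)) := by
  rw [← spec_right D.toSetting G, ← spec_right D.toSetting G,
    ← isom_form D.toSetting hg, mulVec_inv_mulVec, D.symm]

/-- The commutator of a conjugate unipotent element with another one. -/
theorem comm_root (p q : K) :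
    ∃ ψ ∈ rootMaps D.toSetting G H Φ.hv, ∀ y,
      ψ y = τ (q * G.phi w (((g⁻¹ : GL ι F) : Matrix ι ι F) *ᵥ ev K w (p * y))) -
        p * G.phi w ((g : Matrix ι ι F) *ᵥ
          ev K w (q * G.phi v (((g⁻¹ : GL ι F) : Matrix ι ι F) *ᵥ ev K v' y))) := by
  letI : Field K := (isField_of D.hK D.one_le).toField
  obtain ⟨e, he, hex⟩ := exists_uMap D G Φ p
  obtain ⟨d, hd, hdx⟩ := exists_uMap D G Φ q
  let ψ : K →ₗ[F] K := τ ∘ₗ LinearMap.mulLeft F q ∘ₗ G.phi w ∘ₗ
      ((g⁻¹ : GL ι F) : Matrix ι ι F).mulVecLin ∘ₗ ev K w ∘ₗ LinearMap.mulLeft F p -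
    LinearMap.mulLeft F p ∘ₗ G.phi w ∘ₗ (g : Matrix ι ι F).mulVecLin ∘ₗ ev K w ∘ₗ
      LinearMap.mulLeft F q ∘ₗ G.phi v ∘ₗ ((g⁻¹ : GL ι F) : Matrix ι ι F).mulVecLin ∘ₗ ev K v'
  have hψ : ∀ y, ψ y = τ (q * G.phi w (((g⁻¹ : GL ι F) : Matrix ι ι F) *ᵥ ev K w (p * y))) -
        p * G.phi w ((g : Matrix ι ι F) *ᵥ
          ev K w (q * G.phi v (((g⁻¹ : GL ι F) : Matrix ι ι F) *ᵥ ev K v' y))) := fun y => rfl
  refine ⟨ψ, ⟨e * (g * d * g⁻¹) * e⁻¹ * (g * d * g⁻¹)⁻¹,
    mul_mem (mul_mem (mul_mem he (mul_mem (mul_mem hg hd) (inv_mem hg))) (inv_mem he))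
      (inv_mem (mul_mem (mul_mem hg hd) (inv_mem hg))), fun x => ?_⟩, hψ⟩
  obtain ⟨x0, rfl⟩ : ∃ x0, ((g * d * g⁻¹ : GL ι F) : Matrix ι ι F) *ᵥ
      ((e : Matrix ι ι F) *ᵥ x0) = x :=
    ⟨((e⁻¹ : GL ι F) : Matrix ι ι F) *ᵥ (((g * d * g⁻¹)⁻¹ : GL ι F) *ᵥ x : ι → F), by
      rw [mulVec_inv_mulVec, mulVec_inv_mulVec]⟩
  rw [Units.val_mul, Units.val_mul _ (e⁻¹), Units.val_mul e, ← mulVec_mulVec, ← mulVec_mulVec,
    ← mulVec_mulVec, inv_mulVec_mulVec, inv_mulVec_mulVec]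
  have hts : ∀ x, G.phi v (((g⁻¹ : GL ι F) : Matrix ι ι F) *ᵥ x) =
      G.phi v (((g⁻¹ : GL ι F) : Matrix ι ι F) *ᵥ ev K v' (G.phi v x)) := fun x =>
    Sp.phi_ext G fun μ => by
      rw [theta_inv D G Φ hg hτ, theta_inv D G Φ hg hτ, phi_ev D.hK (G.klin v), Φ.hvv', mul_one]
  have hG : ∀ x, ((g * d * g⁻¹ : GL ι F) : Matrix ι ι F) *ᵥ x = x +
      (g : Matrix ι ι F) *ᵥ ev K w (q * G.phi v (((g⁻¹ : GL ι F) : Matrix ι ι F) *ᵥ x)) -
      ev K v (τ (q * G.phi w (((g⁻¹ : GL ι F) : Matrix ι ι F) *ᵥ x) +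
        (2 : F)⁻¹ • (q * q * (G.phi w w *
          G.phi v (((g⁻¹ : GL ι F) : Matrix ι ι F) *ᵥ x))))) := fun x => by
    rw [Units.val_mul, Units.val_mul, ← mulVec_mulVec, ← mulVec_mulVec, hdx, uMap, mulVec_sub,
      mulVec_add, mulVec_inv_mulVec, hτ]
  have hGv : ∀ x, G.phi v (((g * d * g⁻¹ : GL ι F) : Matrix ι ι F) *ᵥ x) = G.phi v x := fun x => by
    rw [hG, map_sub, map_add, perp_fwd D G Φ hg hτ
      (by rw [phi_ev D.hK (G.klin v), Φ.hvw, mul_zero]), phi_ev D.hK (G.klin v), Φ.hv, mul_zero,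
      add_zero, sub_zero]
  have hwG : G.phi w (((g * d * g⁻¹ : GL ι F) : Matrix ι ι F) *ᵥ x0) = G.phi w x0 +
      G.phi w ((g : Matrix ι ι F) *ᵥ
        ev K w (q * G.phi v (((g⁻¹ : GL ι F) : Matrix ι ι F) *ᵥ x0))) := by
    rw [hG, map_sub, map_add, phi_ev D.hK (G.klin w) v, phi_w_v D G Φ, mul_zero, sub_zero]
  have hwe : G.phi w (((g⁻¹ : GL ι F) : Matrix ι ι F) *ᵥ uMap G v w p x0) =
      G.phi w (((g⁻¹ : GL ι F) : Matrix ι ι F) *ᵥ x0) +
        G.phi w (((g⁻¹ : GL ι F) : Matrix ι ι F) *ᵥ ev K w (p * G.phi v x0)) := by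
    obtain ⟨ν, -, hν⟩ := inv_line D G Φ hg hτ
      (p * G.phi w x0 + (2 : F)⁻¹ • (p * p * (G.phi w w * G.phi v x0)))
    rw [uMap, mulVec_sub, mulVec_add, hν, map_sub, map_add, phi_ev D.hK (G.klin w) v,
      phi_w_v D G Φ, mul_zero, sub_zero]
  have hve : G.phi v (((g⁻¹ : GL ι F) : Matrix ι ι F) *ᵥ uMap G v w p x0) =
      G.phi v (((g⁻¹ : GL ι F) : Matrix ι ι F) *ᵥ x0) := by
    rw [hts, hts x0, phi_v_uMap D G Φ]
  rw [hGv, hex, hex, phi_v_uMap D G Φ, uMap, hGv, hwG, hG, hG, hwe, hve, hψ, ← hts x0, uMap]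
  simp only [map_add, map_sub, mul_add]
  abel

theorem semilinear_or_root :
    (∃ ψ ∈ skewSpace D G Φ.hv, ψ ≠ 0) ∨ ∃ σ : K → K, ∀ q x, τ (q * x) = σ q * τ x := by
  letI : Field K := (isField_of D.hK D.one_le).toField
  haveI : Module.Finite F K :=
    Module.finite_of_finrank_pos (by rw [D.hK.finrank_eq]; exact D.hr.pos)
  by_cases hall : ∀ p q : K, ∀ ψ ∈ rootMaps D.toSetting G H Φ.hv, (∀ y, ψ y =
      τ (q * G.phi w (((g⁻¹ : GL ι F) : Matrix ι ι F) *ᵥ ev K w (p * y))) -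
        p * G.phi w ((g : Matrix ι ι F) *ᵥ
          ev K w (q * G.phi v (((g⁻¹ : GL ι F) : Matrix ι ι F) *ᵥ ev K v' y)))) → ψ = 0
  swap
  · push Not at hall
    obtain ⟨p, q, ψ, -, hy, hne⟩ := hall
    refine Or.inl ⟨ψ, fun s => ?_, hne⟩
    obtain ⟨ψ', hψ', hy'⟩ := comm_root D G Φ hg hτ (s • p) q
    suffices h : s • ψ = ψ' from h ▸ hψ'
    refine LinearMap.ext fun y => ?_
    rw [LinearMap.smul_apply, hy, hy', smul_mul_assoc, smul_mul_assoc, map_smul (ev K w),
      mulVec_smul, map_smul (G.phi w), mul_smul_comm, map_smul τ, smul_sub]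
  right
  let A : K → (K →ₗ[F] K) := fun q => τ ∘ₗ LinearMap.mulLeft F q ∘ₗ G.phi w ∘ₗ
    ((g⁻¹ : GL ι F) : Matrix ι ι F).mulVecLin ∘ₗ ev K w
  have hA : ∀ q y, A q y = τ (q * G.phi w (((g⁻¹ : GL ι F) : Matrix ι ι F) *ᵥ ev K w y)) :=
    fun q y => rfl
  have hsym : ∀ q k a b, G.theta (a * A q (k * b)) = G.theta (b * A q (k * a)) := by
    intro q k a b
    obtain ⟨ψ, hψ, hy⟩ := comm_root D G Φ hg hτ k q
    have h0 := hall k q ψ hψ hy
    have h1 : ∀ y, A q (k * y) = k * G.phi w ((g : Matrix ι ι F) *ᵥ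
        ev K w (q * G.phi v (((g⁻¹ : GL ι F) : Matrix ι ι F) *ᵥ ev K v' y))) := fun y => by
      have h2 := hy y
      rw [h0, LinearMap.zero_apply, eq_comm, sub_eq_zero] at h2
      exact h2
    rw [h1 b, hA]
    conv_rhs => rw [mul_comm b]
    conv_rhs => rw [show τ (q * G.phi w (((g⁻¹ : GL ι F) : Matrix ι ι F) *ᵥ ev K w (k * a))) * b =
      τ (q * G.phi w (((g⁻¹ : GL ι F) : Matrix ι ι F) *ᵥ ev K w (k * a))) *
        G.phi v (ev K v' b) by rw [phi_ev D.hK (G.klin v), Φ.hvv', mul_one]]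
    rw [← theta_inv D G Φ hg hτ, ← mul_assoc a k, mul_comm a k]
    conv_rhs => rw [mul_assoc, mul_comm (G.phi w _), ← mul_assoc, theta_gamma D G Φ hg]
  have hlin : ∀ q y, A q y = y * A q 1 := fun q => klin_of_symm D G (hsym q)
  have hΓsurj : ∀ x, ∃ y, G.phi w (((g⁻¹ : GL ι F) : Matrix ι ι F) *ᵥ ev K w y) = x := by
    let Γ : K →ₗ[F] K := G.phi w ∘ₗ ((g⁻¹ : GL ι F) : Matrix ι ι F).mulVecLin ∘ₗ ev K w
    have hinj : Function.Injective Γ := by
      rw [injective_iff_map_eq_zero]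
      intro y hy
      have hy' : G.phi w (((g⁻¹ : GL ι F) : Matrix ι ι F) *ᵥ ev K w y) = 0 := hy
      obtain ⟨μ, hμ⟩ := mem_line_of_zero D G Φ
        (perp_inv D G Φ hg hτ (by rw [phi_ev D.hK (G.klin v), Φ.hvw, mul_zero])) hy'
      have h2 : ev K w y = ev K v (τ μ) := by rw [← hτ, hμ, mulVec_inv_mulVec]
      have h3 := congrArg (G.phi w) h2
      rw [phi_ev D.hK (G.klin w), phi_ev D.hK (G.klin w), phi_w_v D G Φ, mul_zero] at h3
      exact (mul_eq_zero.mp h3).resolve_right Φ.hw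
    exact LinearMap.injective_iff_surjective.mp hinj
  have hc0 : A 1 1 ≠ 0 := by
    intro h0
    obtain ⟨y, hy⟩ := hΓsurj 1
    have h1 := hlin 1 y
    rw [h0, mul_zero, hA, one_mul, hy] at h1
    exact one_ne_zero ((tau_bijective D G Φ hg hτ).1 (h1.trans (map_zero τ).symm))
  refine ⟨fun q => A q 1 * (A 1 1)⁻¹, fun q x => ?_⟩
  obtain ⟨y, rfl⟩ := hΓsurj x
  have h1 := hlin 1 y
  rw [hA 1 y, one_mul] at h1
  rw [← hA q y, hlin q y, h1]
  field_simp

omit [Finite F] Φ hg hτ in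
/-- A semilinear map fixing two independent elements up to sign is a sign. -/
theorem eq_sign_of_semilinear {σ : K → K} (hσ : ∀ q x, τ (q * x) = σ q * τ x) (hτ0 : τ 1 ≠ 0)
    {c1 c2 : K} {s1 s2 : F} (hs1 : s1 * s1 = 1) (hs2 : s2 * s2 = 1) (h1 : τ c1 = s1 • c1)
    (h2 : τ c2 = s2 • c2) (hind : ∀ s : F, c2 ≠ s • c1) (hc1 : c1 ≠ 0) :
    ∀ x, τ x = s1 • x := by
  letI : Field K := (isField_of D.hK D.one_le).toField
  haveI : Module.Finite F K :=
    Module.finite_of_finrank_pos (by rw [D.hK.finrank_eq]; exact D.hr.pos)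
  have hσ' : ∀ q, τ q = σ q * τ 1 := fun q => by
    have := hσ q 1
    rwa [mul_one] at this
  have hs10 : s1 ≠ 0 := left_ne_zero_of_mul (hs1.symm ▸ one_ne_zero)
  let C : Subalgebra F K :=
    { carrier := {q | σ q = q}
      mul_mem' := fun {a b} (ha : σ a = a) (hb : σ b = b) => by
        show σ (a * b) = a * b
        refine mul_right_cancel₀ hτ0 ?_
        rw [← hσ', hσ a b, hσ' b, ha, hb, mul_assoc]
      one_mem' := mul_right_cancel₀ hτ0 (by rw [← hσ', one_mul])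
      add_mem' := fun {a b} (ha : σ a = a) (hb : σ b = b) => by
        show σ (a + b) = a + b
        refine mul_right_cancel₀ hτ0 ?_
        rw [← hσ', map_add, hσ' a, hσ' b, ha, hb, add_mul]
      zero_mem' := mul_right_cancel₀ hτ0 (by rw [← hσ', map_zero, zero_mul])
      algebraMap_mem' := fun t => by
        refine mul_right_cancel₀ hτ0 ?_
        rw [← hσ', Algebra.algebraMap_eq_smul_one, map_smul, smul_mul_assoc, one_mul] }
  obtain ⟨ρ, hρ⟩ : ∃ ρ, ρ = c2 * c1⁻¹ := ⟨_, rfl⟩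
  have hρσ : σ ρ = (s2 * s1) • ρ := by
    have h3 : τ c2 = σ ρ * τ c1 := by
      rw [← hσ, hρ, mul_assoc, inv_mul_cancel₀ hc1, mul_one]
    rw [h2, h1, mul_smul_comm] at h3
    have h4 := congrArg (fun z => s1 • (z * c1⁻¹)) h3
    simp only [smul_mul_assoc, smul_smul, hs1, one_smul, mul_assoc, mul_inv_cancel₀ hc1,
      mul_one] at h4
    rw [← h4, hρ, mul_comm s2]
  have hρ2 : ρ * ρ ∈ C := by
    show σ (ρ * ρ) = ρ * ρ
    refine mul_right_cancel₀ hτ0 ?_
    rw [← hσ', hσ ρ ρ, hσ' ρ, hρσ, smul_mul_assoc, smul_mul_assoc, mul_smul_comm, smul_smul,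
      show s2 * s1 * (s2 * s1) = (s2 * s2) * (s1 * s1) by ring, hs1, hs2, one_mul, one_smul,
      mul_assoc]
  haveI := Subalgebra.isSimpleOrder_of_finrank_prime F K (D.hK.finrank_eq.symm ▸ D.hr)
  have hC : C = ⊤ := (IsSimpleOrder.eq_bot_or_eq_top C).resolve_left fun hb => by
    rw [hb, Algebra.mem_bot] at hρ2
    obtain ⟨t, ht⟩ := hρ2
    obtain ⟨j, hj⟩ := odd_r D
    have hρ0 : ρ ≠ 0 := by
      rw [hρ]
      refine mul_ne_zero (fun h => hind 0 (by rw [h, zero_smul])) (inv_ne_zero hc1)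
    have ht0 : t ≠ 0 := fun h => mul_ne_zero hρ0 hρ0 (by rw [← ht, h, map_zero])
    have h5 := congrArg (Algebra.norm F) ht
    rw [Algebra.norm_algebraMap, map_mul, D.hK.finrank_eq, hj] at h5
    obtain ⟨u, hu⟩ : ∃ u, u = Algebra.norm F ρ / t ^ j := ⟨_, rfl⟩
    have hu2 : u * u = t := by
      rw [hu]; field_simp; linear_combination -h5
    have h6 : (ρ - algebraMap F K u) * (ρ + algebraMap F K u) = 0 := by
      rw [show (ρ - algebraMap F K u) * (ρ + algebraMap F K u) =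
        ρ * ρ - algebraMap F K u * algebraMap F K u by ring, ← map_mul, hu2, ht, sub_self]
    have h7 : ∀ s : F, ρ ≠ algebraMap F K s := fun s hs => hind s (by
      rw [Algebra.smul_def, ← hs, hρ, mul_assoc, inv_mul_cancel₀ hc1, mul_one])
    rcases mul_eq_zero.mp h6 with h | h
    · exact h7 u (sub_eq_zero.mp h)
    · exact h7 (-u) (by rw [map_neg]; exact eq_neg_of_add_eq_zero_left h)
  intro x
  have hx : ∀ q, σ q = q := fun q => (hC ▸ Algebra.mem_top : q ∈ C)
  have h8 : τ 1 = s1 • 1 := by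
    have h9 := hσ' c1
    rw [hx, h1] at h9
    refine mul_left_cancel₀ hc1 ?_
    rw [← h9, mul_smul_comm, mul_one]
  rw [hσ' x, hx, h8, mul_smul_comm, mul_one]

/-- An element fixing the line is unipotent unless there are root elements. -/
theorem unipotent_or_root (hid : ∀ μ, τ μ = μ) :
    (∃ ψ ∈ skewSpace D G Φ.hv, ψ ≠ 0) ∨ ∃ (p : K) (ψ : K →ₗ[F] K), ∀ x,
      (g : Matrix ι ι F) *ᵥ x = uMap G v w p x + ev K v (ψ (G.phi v x)) := by
  classical
  letI : Field K := (isField_of D.hK D.one_le).toField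
  by_cases hroot : ∃ ψ ∈ skewSpace D G Φ.hv, ψ ≠ 0
  · exact Or.inl hroot
  right
  have hnoψ : ∀ ψ, (∀ s : F, s • ψ ∈ rootMaps D.toSetting G H Φ.hv) → ψ = 0 := fun ψ h => by
    by_contra hne
    exact hroot ⟨ψ, h, hne⟩
  set N := G.phi w w with hN
  have hvg : ∀ x, G.phi v ((g : Matrix ι ι F) *ᵥ x) = G.phi v x := fun x =>
    Sp.phi_ext G fun μ => by
      have h := theta_inv D G Φ hg hτ μ ((g : Matrix ι ι F) *ᵥ x)
      rw [inv_mulVec_mulVec, hid] at h
      exact h.symm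
  have hvgi : ∀ x, G.phi v (((g⁻¹ : GL ι F) : Matrix ι ι F) *ᵥ x) = G.phi v x := fun x => by
    rw [← hvg, mulVec_inv_mulVec]
  -- the middle part
  let Γ : K →ₗ[F] K := G.phi w ∘ₗ ((g⁻¹ : GL ι F) : Matrix ι ι F).mulVecLin ∘ₗ ev K w
  let Γ' : K →ₗ[F] K := G.phi w ∘ₗ (g : Matrix ι ι F).mulVecLin ∘ₗ ev K w
  have hsym : ∀ k y, Γ (k * y) = k * Γ' y := by
    intro k y
    obtain ⟨ψ0, hψ0, hy⟩ := comm_root D G Φ hg hτ k 1
    have hz : ψ0 = 0 := hnoψ ψ0 fun s => by
      obtain ⟨ψ', hψ', hy'⟩ := comm_root D G Φ hg hτ (s • k) 1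
      suffices h : s • ψ0 = ψ' from h ▸ hψ'
      refine LinearMap.ext fun y => ?_
      rw [LinearMap.smul_apply, hy, hy', smul_mul_assoc, smul_mul_assoc, map_smul (ev K w),
        mulVec_smul, map_smul (G.phi w), mul_smul_comm, map_smul τ, smul_sub]
    have h2 := hy y
    rw [hz, LinearMap.zero_apply, eq_comm, sub_eq_zero, hid, one_mul, one_mul, hvgi,
      phi_ev D.hK (G.klin v), Φ.hvv', mul_one] at h2
    exact h2
  have hΓ' : ∀ y, Γ' y = Γ y := fun y => by
    have := hsym 1 y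
    rwa [one_mul, one_mul, eq_comm] at this
  obtain ⟨c0, hc0⟩ : ∃ c0, c0 = Γ 1 := ⟨_, rfl⟩
  have hΓlin : ∀ y, Γ' y = y * c0 := fun y => by
    have h1 := hsym y 1
    rw [mul_one, hΓ' 1] at h1
    rw [hΓ', h1, hc0]
  have hgw : ∀ y, ∃ B, (g : Matrix ι ι F) *ᵥ ev K w y = ev K v B + ev K w (y * (c0 * N⁻¹)) := by
    intro y
    obtain ⟨a, b, hab⟩ := exists_coords_perp D G Φ
      (x := (g : Matrix ι ι F) *ᵥ ev K w y)
      (by rw [hvg, phi_ev D.hK (G.klin v), Φ.hvw, mul_zero])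
    refine ⟨a, ?_⟩
    have h1 := hΓlin y
    have h2 : Γ' y = G.phi w ((g : Matrix ι ι F) *ᵥ ev K w y) := rfl
    rw [h2, hab, map_add, phi_ev D.hK (G.klin w), phi_ev D.hK (G.klin w), phi_w_v D G Φ,
      mul_zero, zero_add, ← hN] at h1
    rw [hab, show y * (c0 * N⁻¹) = b by rw [← mul_assoc, ← h1, mul_assoc, mul_inv_cancel₀ (show N ≠ 0 from Φ.hw), mul_one]]
  have hN0 : N ≠ 0 := Φ.hw
  have hc : c0 * c0 = N * N := by
    have hq : ∀ y, G.theta (y * y * (c0 * c0 * N⁻¹ - N)) = 0 := by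
      intro y
      obtain ⟨B, hB⟩ := hgw y
      have h1 := isom_form D.toSetting hg (ev K w y) (ev K w y)
      rw [hB, ← theta_phi D.toSetting G, ← theta_phi D.toSetting G (ev K w y)] at h1
      simp only [phi_add D.toSetting G, map_add, phi_ev_left D.toSetting G,
        phi_ev D.hK (G.klin _), Φ.hv, phi_w_v D G Φ, Φ.hvw, mul_zero, zero_add, add_zero,
        ← hN] at h1
      rw [mul_sub, map_sub, sub_eq_zero, show y * y * (c0 * c0 * N⁻¹) =
        y * (c0 * N⁻¹) * (y * (c0 * N⁻¹) * N) by field_simp, h1]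
      congr 1
      ring
    have h3 : c0 * c0 * N⁻¹ - N = 0 := G.sep _ fun k => by
      have e1 := hq (k + 1)
      have e2 := hq k
      have e3 := hq 1
      rw [show (k + 1) * (k + 1) * (c0 * c0 * N⁻¹ - N) = k * k * (c0 * c0 * N⁻¹ - N) +
        1 * 1 * (c0 * c0 * N⁻¹ - N) + (2 : F) • (k * (c0 * c0 * N⁻¹ - N)) by
          rw [Algebra.smul_def, map_ofNat]; ring, map_add, map_add, e2, e3, map_smul,
        smul_eq_mul, zero_add, zero_add] at e1
      exact (mul_eq_zero.mp e1).resolve_left D.two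
    field_simp at h3
    linear_combination h3
  have hceq : c0 = N := by
    rcases mul_self_eq_mul_self_iff.mp hc with h | h
    · exact h
    exfalso
    -- the determinant
    obtain ⟨ρ, -, -, c, hc2, hρx⟩ := exists_refl D.toSetting G Φ.hw
    haveI : Module.Finite F K :=
      Module.finite_of_finrank_pos (by rw [D.hK.finrank_eq]; exact D.hr.pos)
    have hdetρ : (ρ : Matrix ι ι F).det = -1 := by
      let b := Module.finBasis F K
      let A : Matrix ι (Fin (Module.finrank F K)) F :=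
        LinearMap.toMatrix b (Pi.basisFun F ι) (ev K w)
      let B : Matrix (Fin (Module.finrank F K)) ι F :=
        LinearMap.toMatrix (Pi.basisFun F ι) b (LinearMap.mulLeft F c ∘ₗ G.phi w)
      have e1 : (ρ : Matrix ι ι F) = 1 - A * B := by
        refine Matrix.ext_iff_mulVec.mpr fun x => ?_
        rw [sub_mulVec, one_mulVec, ← LinearMap.toMatrix_comp,
          show LinearMap.toMatrix (Pi.basisFun F ι) (Pi.basisFun F ι) =
            LinearMap.toMatrix' from LinearMap.toMatrix_eq_toMatrix',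
          LinearMap.toMatrix'_mulVec, hρx]
        rfl
      have e2 : B * A = (2 : F) • 1 := by
        rw [← LinearMap.toMatrix_comp]
        have : (LinearMap.mulLeft F c ∘ₗ G.phi w) ∘ₗ ev K w = (2 : F) • LinearMap.id :=
          LinearMap.ext fun y => by
            simp only [LinearMap.comp_apply, LinearMap.mulLeft_apply, LinearMap.smul_apply,
              LinearMap.id_apply]
            rw [phi_ev D.hK (G.klin w), mul_left_comm, ← hN, hc2, Algebra.smul_def, map_ofNat,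
              mul_comm]
        rw [this, map_smul, LinearMap.toMatrix_id]
      rw [e1, Matrix.det_one_sub_mul_comm, e2,
        show (1 : Matrix (Fin (Module.finrank F K)) (Fin (Module.finrank F K)) F) - (2 : F) • 1 =
          (-1 : F) • 1 by rw [two_smul, neg_one_smul]; abel,
        Matrix.det_smul, Matrix.det_one, mul_one, Fintype.card_fin, D.hK.finrank_eq,
        (odd_r D).neg_one_pow]
    set h' := (g : Matrix ι ι F) * (ρ : Matrix ι ι F) with hh'
    have hρv : ∀ x, G.phi v ((ρ : Matrix ι ι F) *ᵥ x) = G.phi v x := fun x => by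
      rw [hρx, map_sub, phi_ev D.hK (G.klin v), Φ.hvw, mul_zero, sub_zero]
    have hhv : ∀ x, G.phi v (h' *ᵥ x) = G.phi v x := fun x => by
      rw [hh', ← mulVec_mulVec, hvg, hρv]
    have hhL : ∀ μ, h' *ᵥ ev K v μ = ev K v μ := fun μ => by
      rw [hh', ← mulVec_mulVec, hρx, phi_ev D.hK (G.klin w), phi_w_v D G Φ, mul_zero, mul_zero,
        map_zero, sub_zero, hτ, hid]
    have hhP : ∀ x, G.phi v x = 0 → ∃ μ, h' *ᵥ x - x = ev K v μ := by
      intro x hx
      obtain ⟨a, b, rfl⟩ := exists_coords_perp D G Φ hx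
      obtain ⟨B, hB⟩ := hgw (-b)
      refine ⟨B, ?_⟩
      rw [mulVec_add, hhL, hh', ← mulVec_mulVec, hρx, phi_ev D.hK (G.klin w),
        show c * (b * G.phi w w) = b + b by rw [← hN]; linear_combination b * hc2,
        show ev K w b - ev K w (b + b) = ev K w (-b) by rw [map_add, map_neg]; abel, hB, h,
        show -b * (-N * N⁻¹) = b by field_simp [hN0]]
      abel
    have hcube : (h' - 1) ^ 3 = 0 := by
      refine Matrix.ext_iff_mulVec.mpr fun x => ?_
      obtain ⟨μ, hμ⟩ := hhP _ (show G.phi v ((h' - 1) *ᵥ x) = 0 by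
        rw [sub_mulVec, one_mulVec, map_sub, hhv, sub_self])
      rw [pow_succ, pow_two, ← mulVec_mulVec, ← mulVec_mulVec,
        sub_mulVec h' 1 ((h' - 1) *ᵥ x), one_mulVec, hμ, sub_mulVec, one_mulVec, hhL, sub_self,
        zero_mulVec]
    haveI : Nonempty ι := Fintype.card_pos_iff.mp (by
      have h3 := D.card_eq; have h4 := D.three; omega)
    set q := ringChar F with hq
    haveI : CharP F q := ringChar.charP F
    haveI hqp : Fact q.Prime := ⟨CharP.char_is_prime F q⟩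
    have hpow : h' ^ (q ^ 2) = 1 := by
      have h4 : (h' - 1) ^ (q ^ 2) = h' ^ (q ^ 2) - 1 := by
        rw [sub_pow_char_pow_of_commute _ _ (Commute.one_right h'), one_pow]
      rw [pow_eq_zero_of_le (by nlinarith [hqp.out.two_le]) hcube, eq_comm, sub_eq_zero] at h4
      exact h4
    have hdet : h'.det = 1 := by
      have h5 := congrArg Matrix.det hpow
      rw [Matrix.det_pow, Matrix.det_one] at h5
      refine sub_eq_zero.mp (eq_zero_of_pow_eq_zero (n := q ^ 2) ?_)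
      rw [sub_pow_char_pow_of_commute _ _ (Commute.one_right _), one_pow, h5, sub_self]
    rw [hh', Matrix.det_mul, hdetρ, D.det_one g hg] at hdet
    exact D.two (by linear_combination -hdet)
  -- the lower part
  let B : K →ₗ[F] K := G.phi v' ∘ₗ (g : Matrix ι ι F).mulVecLin ∘ₗ ev K w
  have hgw' : ∀ y, (g : Matrix ι ι F) *ᵥ ev K w y = ev K v (B y) + ev K w y := by
    intro y
    obtain ⟨a, ha⟩ := hgw y
    rw [hceq, mul_inv_cancel₀ hN0, mul_one] at ha
    have e : B y = a := by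
      show G.phi v' ((g : Matrix ι ι F) *ᵥ ev K w y) = a
      rw [ha, map_add, phi_ev D.hK (G.klin v'), phi_ev D.hK (G.klin v'), phi_v'_v D G Φ, Φ.hv'w,
        mul_zero, add_zero, mul_one]
    rw [e, ha]
  let B' : K →ₗ[F] K := G.phi w ∘ₗ (g : Matrix ι ι F).mulVecLin ∘ₗ ev K v'
  have hBadj : ∀ a b, G.theta (a * B' b) = -G.theta (b * B a) := by
    intro a b
    have h1 := isom_form D.toSetting hg (ev K v' b) (ev K w a)
    rw [hgw', D.bil.add_right, spec_right D.toSetting G, spec_right D.toSetting G,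
      spec_right D.toSetting G, hvg, phi_ev D.hK (G.klin v), Φ.hvv', mul_one,
      phi_ev D.hK (G.klin w), phi_w_v' D G Φ, mul_zero, mul_zero, map_zero] at h1
    show G.theta (a * G.phi w ((g : Matrix ι ι F) *ᵥ ev K v' b)) = _
    rw [mul_comm b]
    linear_combination h1
  have hwg : ∀ x, G.phi w ((g : Matrix ι ι F) *ᵥ x) = G.phi w x + B' (G.phi v x) := by
    intro x
    obtain ⟨a, b, c, rfl⟩ := exists_coords D G Φ x
    rw [phi_w_comb D G Φ, phi_v_comb D G Φ, mulVec_add, mulVec_add, hτ, hid, hgw', map_add,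
      map_add, map_add, phi_ev D.hK (G.klin w), phi_ev D.hK (G.klin w), phi_ev D.hK (G.klin w),
      phi_w_v D G Φ, mul_zero, mul_zero, zero_add, zero_add]
    rfl
  have hBsym : ∀ k a b, G.theta (a * B (k * b)) = G.theta (b * B (k * a)) := by
    have hmem : ∀ p : K, -(LinearMap.mulLeft F p ∘ₗ B' + B ∘ₗ LinearMap.mulLeft F p) ∈
        rootMaps D.toSetting G H Φ.hv := by
      intro p
      obtain ⟨e, he, hex⟩ := exists_uMap D G Φ p
      refine ⟨e * g * e⁻¹ * g⁻¹, mul_mem (mul_mem (mul_mem he hg) (inv_mem he)) (inv_mem hg),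
        fun x => ?_⟩
      obtain ⟨x0, rfl⟩ : ∃ x0, (g : Matrix ι ι F) *ᵥ ((e : Matrix ι ι F) *ᵥ x0) = x :=
        ⟨((e⁻¹ : GL ι F) : Matrix ι ι F) *ᵥ (((g⁻¹ : GL ι F) : Matrix ι ι F) *ᵥ x), by
          rw [mulVec_inv_mulVec, mulVec_inv_mulVec]⟩
      rw [Units.val_mul, Units.val_mul, Units.val_mul, ← mulVec_mulVec, ← mulVec_mulVec,
        ← mulVec_mulVec, inv_mulVec_mulVec, inv_mulVec_mulVec, hex, hex, hvg, phi_v_uMap D G Φ,
        uMap, hvg, hwg, uMap, mulVec_sub, mulVec_add, hτ, hid, hgw']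
      simp only [LinearMap.neg_apply, LinearMap.add_apply, LinearMap.comp_apply,
        LinearMap.mulLeft_apply, mul_add, map_add, map_neg]
      abel
    have hz : ∀ p : K, LinearMap.mulLeft F p ∘ₗ B' + B ∘ₗ LinearMap.mulLeft F p = 0 := fun p =>
      neg_eq_zero.mp (hnoψ _ fun s => by
        convert hmem (s • p) using 1
        refine LinearMap.ext fun y => ?_
        simp only [LinearMap.smul_apply, LinearMap.neg_apply, LinearMap.add_apply,
          LinearMap.comp_apply, LinearMap.mulLeft_apply, smul_mul_assoc, map_smul, smul_neg,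
          smul_add])
    intro k a b
    have h1 : ∀ y, B (k * y) = -(k * B' y) := fun y => by
      have := LinearMap.congr_fun (hz k) y
      simp only [LinearMap.add_apply, LinearMap.comp_apply, LinearMap.mulLeft_apply,
        LinearMap.zero_apply] at this
      exact eq_neg_of_add_eq_zero_right this
    rw [h1 b, mul_neg, map_neg, ← mul_assoc, mul_comm a k, hBadj, neg_neg]
  obtain ⟨b1, hb1⟩ : ∃ b1, b1 = B 1 := ⟨_, rfl⟩
  have hBlin : ∀ y, B y = y * b1 := fun y => by rw [hb1]; exact klin_of_symm D G hBsym y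
  have hB'lin : ∀ y, B' y = -(y * b1) := fun y => Sp.phi_ext G fun k => by
    rw [hBadj, hBlin, mul_neg, map_neg]
    congr 2
    ring
  obtain ⟨p, hp⟩ : ∃ p, p = -(b1 * N⁻¹) := ⟨_, rfl⟩
  obtain ⟨e, he, hex⟩ := exists_uMap D G Φ p
  let ψ : K →ₗ[F] K := G.phi v' ∘ₗ
    ((g : Matrix ι ι F) - (e : Matrix ι ι F)).mulVecLin ∘ₗ ev K v'
  refine ⟨p, ψ, fun x => ?_⟩
  obtain ⟨a, b, c, rfl⟩ := exists_coords D G Φ x
  have hPw : ∀ y, (g : Matrix ι ι F) *ᵥ ev K w y = uMap G v w p (ev K w y) := fun y => by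
    rw [hgw', hBlin, uMap, phi_ev D.hK (G.klin v), phi_ev D.hK (G.klin w), Φ.hvw, ← hN, hp]
    simp only [mul_zero, map_zero, smul_zero, add_zero]
    rw [show -(b1 * N⁻¹) * (y * N) = -(y * b1) by field_simp, map_neg]
    abel
  have hv'y : ∀ y, (g : Matrix ι ι F) *ᵥ ev K v' y - uMap G v w p (ev K v' y) =
      ev K v (ψ y) := fun y => by
    obtain ⟨μ, hμ⟩ := mem_line_of_zero D G Φ
      (x := (g : Matrix ι ι F) *ᵥ ev K v' y - uMap G v w p (ev K v' y))
      (by rw [map_sub, hvg, phi_v_uMap D G Φ, sub_self])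
      (by
        rw [map_sub, hwg, phi_w_uMap D G Φ, hB'lin, phi_ev D.hK (G.klin v), Φ.hvv', ← hN, hp,
          mul_one]
        field_simp
        ring)
    have h1 : ψ y = μ := by
      show G.phi v' (((g : Matrix ι ι F) - (e : Matrix ι ι F)) *ᵥ ev K v' y) = μ
      rw [sub_mulVec, hex, ← hμ, phi_ev D.hK (G.klin v'), phi_v'_v D G Φ, mul_one]
    rw [h1, hμ]
  rw [phi_v_comb D G Φ, ← hex, mulVec_add, mulVec_add, mulVec_add, mulVec_add, hτ, hid, hPw,
    hex, hex, hex, uMap_line D G Φ, ← hv'y]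
  abel

end Cfsg.Agent.ExtFieldMax.Orth.Three
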