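import Cfsg.Agent.ExtFieldMax.Orth.Three.Meet

/-!
A transvection on an isotropic line in dimension three over the field (helper98).
-/

set_option autoImplicit false

namespace Cfsg.Agent.ExtFieldMax.Orth.Three

open Matrix Cfsg.Agent.MaxSub

section Field

variable {F E : Type*} [Field F] [Field E] [Algebra F E] [FiniteDimensional F E]

/-- The stabiliser of a proper nonzero subspace in prime degree is the base field. -/
theorem mem_base_of_stable (hp : (Module.finrank F E).Prime) {P : Submodule F E} (hbot : P ≠ ⊥)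
    (htop : P ≠ ⊤) {c : E} (hc : ∀ p ∈ P, c * p ∈ P) : ∃ s : F, c = algebraMap F E s := by
  let C : Subalgebra F E :=
    { carrier := {c | ∀ p ∈ P, c * p ∈ P}
      mul_mem' := fun {a b} ha hb p hp => by rw [mul_assoc]; exact ha _ (hb _ hp)
      one_mem' := fun p hp => by rwa [one_mul]
      add_mem' := fun {a b} ha hb p hp => by rw [add_mul]; exact add_mem (ha _ hp) (hb _ hp)
      zero_mem' := fun p hp => by rw [zero_mul]; exact zero_mem _
      algebraMap_mem' := fun s p hp => by rw [← Algebra.smul_def]; exact P.smul_mem s hp }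
  haveI := Subalgebra.isSimpleOrder_of_finrank_prime F E hp
  rcases IsSimpleOrder.eq_bot_or_eq_top C with h | h
  · have hcC : c ∈ C := hc
    rw [h, Algebra.mem_bot] at hcC
    obtain ⟨s, hs⟩ := hcC
    exact ⟨s, hs.symm⟩
  · exfalso
    obtain ⟨q, hq, hq0⟩ := Submodule.exists_mem_ne_zero_of_ne_bot hbot
    refine htop (eq_top_iff.mpr fun k _ => ?_)
    have := (h ▸ Algebra.mem_top : k / q ∈ C) q hq
    rwa [div_mul_cancel₀ _ hq0] at this

end Field

variable {ι : Type} [Fintype ι] [DecidableEq ι] {F : Type*} [Field F] [Finite F]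
variable {f : (ι → F) → (ι → F) → F} {K : Subalgebra F (Matrix ι ι F)} {r : ℕ}
variable {H : Subgroup (GL ι F)} (D : Dim3 f K r H) (G : Sp.KForm f K)

variable {v v' w : ι → F} (Φ : Frame G v v' w)
include D Φ

omit [Finite F] in
theorem uMap_perp (p : K) {y : ι → F} (hy : G.phi v y = 0) :
    uMap G v w p y = y - ev K v (p * G.phi w y) := by
  simp [uMap, hy]

/-- A maximal image having a point in the orthogonal off the line. -/
theorem exists_max_perp
    (hn' : ∃ g ∈ H, ∃ (x : ι → F), G.phi x x = 0 ∧ ∃ k : K,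
      (g : Matrix ι ι F) *ᵥ ((k : Matrix ι ι F) *ᵥ x) ∉ kline K ((g : Matrix ι ι F) *ᵥ x)) :
    ∃ h ∈ H, lineImg K h v ≠ kline K v ∧
      0 < Module.finrank F ↥(kline K v ⊓ lineImg K h v) ∧
      (∀ g ∈ H, lineImg K g v ≠ kline K v →
        Module.finrank F ↥(kline K v ⊓ lineImg K g v) ≤
          Module.finrank F ↥(kline K v ⊓ lineImg K h v)) ∧
      ∃ l ∈ lineImg K h v, l ∉ kline K v ∧ G.phi v l = 0 := by
  classical
  letI : Field K := (isField_of D.hK D.one_le).toField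
  haveI : Module.Finite F K :=
    Module.finite_of_finrank_pos (by rw [D.hK.finrank_eq]; exact D.hr.pos)
  have S := D.toSetting
  have hv0 := v_ne_zero D G Φ
  set L := kline K v with hL
  let P : ℕ → Prop := fun a => ∃ h ∈ H, lineImg K h v ≠ L ∧
    Module.finrank F ↥(L ⊓ lineImg K h v) = a
  obtain ⟨h1, hh1, hne1, c1, hc1, hc1L⟩ := exists_meeting3 D G Φ hn'
  have hle : ∀ g : GL ι F, Module.finrank F ↥(L ⊓ lineImg K g v) ≤ r := fun g =>
    (Submodule.finrank_mono inf_le_left).trans (finrank_kline D.hK hv0).le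
  obtain ⟨h, hh, hne, ha⟩ := Nat.findGreatest_spec (P := P) (hle h1) ⟨h1, hh1, hne1, rfl⟩
  have hmax : ∀ g ∈ H, lineImg K g v ≠ L →
      Module.finrank F ↥(L ⊓ lineImg K g v) ≤ Module.finrank F ↥(L ⊓ lineImg K h v) :=
    fun g hg hgne => ha ▸ Nat.le_findGreatest (hle g) ⟨g, hg, hgne, rfl⟩
  have hpos : 0 < Module.finrank F ↥(L ⊓ lineImg K h v) :=
    lt_of_lt_of_le (Module.finrank_pos_iff_exists_ne_zero.mpr
      ⟨⟨ev K v c1, ⟨c1, rfl⟩, hc1L⟩, fun h0 => hc1 (ev_injective D.hK hv0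
        ((congrArg Subtype.val h0).trans (map_zero _).symm))⟩) (hmax h1 hh1 hne1)
  set L' := lineImg K h v with hL'
  by_cases hcase : ∃ l ∈ L', l ∉ L ∧ G.phi v l = 0
  · exact ⟨h, hh, hne, hpos, hmax, hcase⟩
  push Not at hcase
  obtain ⟨l, hl, hlL⟩ : ∃ l ∈ L', l ∉ L := by
    by_contra hc
    push Not at hc
    exact hne (Submodule.eq_of_le_of_finrank_eq hc
      (by rw [hL', finrank_lineImg D.hK h hv0, hL, finrank_kline D.hK hv0]))
  obtain ⟨δ, hδ⟩ : ∃ δ, δ = G.phi v l := ⟨_, rfl⟩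
  have hδ0 : δ ≠ 0 := fun h0 => hcase l hl hlL (hδ ▸ h0)
  obtain ⟨N, hN⟩ : ∃ N, N = G.phi w w := ⟨_, rfl⟩
  have hN0 : N ≠ 0 := hN ▸ Φ.hw
  -- the parameter
  obtain ⟨k, hk0, hk⟩ : ∃ k : K, k ≠ 0 ∧ G.theta (k * k * (N * δ) * δ) = 0 := by
    let χ : K →ₗ[F] F := G.theta ∘ₗ LinearMap.mulRight F (N * δ * δ)
    obtain ⟨c, hc, hc0⟩ := Submodule.exists_mem_ne_zero_of_ne_bot (p := LinearMap.ker χ)
      (fun h0 => by
        have h1 := LinearMap.finrank_range_add_finrank_ker χ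
        have h2 := (LinearMap.range χ).finrank_le
        rw [h0, finrank_bot, Module.finrank_self] at *
        rw [D.hK.finrank_eq] at h1
        have := D.three
        omega)
    obtain ⟨t, e, he, hce⟩ := exists_smul_sq (E := K) D.two
      (by rw [D.hK.finrank_eq]; exact odd_r D) hc0
    refine ⟨e, he, ?_⟩
    have h1 : G.theta (c * (N * δ * δ)) = 0 := hc
    rw [hce, smul_mul_assoc, map_smul, smul_eq_mul] at h1
    rw [mul_assoc (e * e)]
    exact (mul_eq_zero.mp h1).resolve_left fun ht => hc0 (by rw [hce, ht, zero_smul])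
  obtain ⟨E, hE, hEx⟩ := exists_uMap D G Φ k
  -- the functional
  have hform : ∀ (x : ι → F) (c : K) z, f (ev K x c) z = G.theta (c * G.phi x z) := fun x c z => by
    rw [D.symm, spec_right S G]
  obtain ⟨d, hd⟩ : ∃ d, d = (E : Matrix ι ι F) *ᵥ l - l := ⟨_, rfl⟩
  have hd' : d = ev K w (k * δ) -
      ev K v (k * G.phi w l + (2 : F)⁻¹ • (k * k * (N * δ))) := by
    rw [hd, hEx, uMap, hδ, hN]
    abel
  let χ : Module.Dual F L' := G.theta ∘ₗ (LinearMap.mulLeft F (k * δ) ∘ₗ G.phi w -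
      LinearMap.mulLeft F (k * G.phi w l + (2 : F)⁻¹ • (k * k * (N * δ))) ∘ₗ G.phi v) ∘ₗ L'.subtype
  have hχd : ∀ z : L', f d z = χ z := fun z => by
    rw [hd', form_sub_left D.bil, hform, hform, ← map_sub]
    rfl
  have hχl : χ ⟨l, hl⟩ = 0 := by
    show G.theta (k * δ * G.phi w l -
      (k * G.phi w l + (2 : F)⁻¹ • (k * k * (N * δ))) * G.phi v l) = 0
    rw [← hδ, show k * δ * G.phi w l - (k * G.phi w l + (2 : F)⁻¹ • (k * k * (N * δ))) * δ =
      -((2 : F)⁻¹ • (k * k * (N * δ) * δ)) by rw [add_mul, smul_mul_assoc]; ring,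
      map_neg, map_smul, hk, smul_zero, neg_zero]
  have hχL : ∀ z : L', (z : ι → F) ∈ L → χ z = 0 := fun z ⟨μ, hμ⟩ => by
    show G.theta (_ - _) = 0
    simp only [LinearMap.comp_apply, LinearMap.mulLeft_apply, Submodule.coe_subtype, ← hμ,
      phi_ev D.hK (G.klin _), Φ.hv, phi_w_v D G Φ, mul_zero, sub_self, map_zero]
  let Ξ : skewSpace D G Φ.hv →ₗ[F] Module.Dual F L' :=
    { toFun := fun ψ => G.theta ∘ₗ LinearMap.mulLeft F (ψ.1 δ) ∘ₗ G.phi v ∘ₗ L'.subtype
      map_add' := fun a b => LinearMap.ext fun z => by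
        simp [add_mul]
      map_smul' := fun c a => LinearMap.ext fun z => by
        simp }
  obtain ⟨ψ, hψ⟩ : -χ ∈ LinearMap.range Ξ := by
    rw [← Subspace.dualCoannihilator_dualAnnihilator_eq (W := LinearMap.range Ξ)]
    refine neg_mem ((Submodule.mem_dualAnnihilator _).mpr fun z hz => ?_)
    rw [Submodule.mem_dualCoannihilator] at hz
    obtain ⟨η, hη⟩ : ∃ η, η = G.phi v z := ⟨_, rfl⟩
    obtain ⟨s, hs⟩ : ∃ s : F, η = s • δ := by
      by_contra hc
      push Not at hc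
      obtain ⟨ψ, hψ, hne⟩ := root_exists D G Φ hn'
      refine hne (skew_eq_zero (by rw [D.hK.finrank_eq]; exact D.hr) D.two G.theta G.sep
        (skew_of_mem D G Φ hψ) (a := η * δ⁻¹) (fun s hs => hc s ?_) fun y => ?_)
      · rw [Algebra.smul_def, ← hs, mul_assoc, inv_mul_cancel₀ hδ0, mul_one]
      · have h1 : G.theta ((LinearMap.mulLeft F (y * δ⁻¹) ∘ₗ ψ ∘ₗ LinearMap.mulLeft F (y * δ⁻¹)) δ *
            η) = 0 := by
          rw [hη]; exact hz _ ⟨⟨_, conj_mem D G Φ (y * δ⁻¹) hψ⟩, rfl⟩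
        simp only [LinearMap.comp_apply, LinearMap.mulLeft_apply, mul_assoc, inv_mul_cancel₀ hδ0,
          mul_one] at h1
        rw [← h1]
        congr 1
        ring
    have hzs : (z : ι → F) - s • l ∈ L := by
      by_contra hnot
      exact hcase _ (sub_mem z.2 (L'.smul_mem s hl)) hnot
        (by rw [map_sub, map_smul, ← hη, ← hδ, hs, sub_self])
    have := hχL (z - s • ⟨l, hl⟩) hzs
    rwa [map_sub, map_smul, hχl, smul_zero, sub_zero] at this
  obtain ⟨X, hX, hXx⟩ := exists_root_elt D G Φ ψ.2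
  obtain ⟨m, hm⟩ : ∃ m, m = (X : Matrix ι ι F) *ᵥ ((E : Matrix ι ι F) *ᵥ l) := ⟨_, rfl⟩
  have hm' : m = l + d + ev K v (ψ.1 δ) := by
    rw [hm, hXx, hEx, phi_v_uMap D G Φ, ← hδ, hd, hEx, add_sub_cancel]
  have hmperp : ∀ z ∈ L', f m z = 0 := by
    intro z hz
    have h2 : G.theta (ψ.1 δ * G.phi v z) = -χ ⟨z, hz⟩ := LinearMap.congr_fun hψ ⟨z, hz⟩
    rw [hm', D.bil.add_left, D.bil.add_left, form_lineImg S G hh Φ.hv hl hz, hχd ⟨z, hz⟩, hform, h2]
    ring
  have hmL' : m ∉ L' := by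
    intro hmem
    have h3 : m - l ∈ L := by
      by_contra hnot
      refine hcase _ (sub_mem hmem hl) hnot ?_
      rw [hm, hXx, hEx, map_sub, map_add, phi_v_uMap D G Φ, phi_ev D.hK (G.klin v), Φ.hv,
        mul_zero, add_zero, sub_self]
    obtain ⟨μ, hμ⟩ := h3
    have h4 := congrArg (G.phi w) hμ
    rw [hm', hd', phi_ev D.hK (G.klin w), phi_w_v D G Φ, mul_zero, map_sub, map_add, map_add,
      map_sub, phi_ev D.hK (G.klin w), phi_ev D.hK (G.klin w), phi_ev D.hK (G.klin w),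
      phi_w_v D G Φ, mul_zero, mul_zero, sub_zero, add_zero, add_sub_cancel_left, ← hN] at h4
    exact mul_ne_zero (mul_ne_zero hk0 hδ0) hN0 h4.symm
  -- the new image
  set n := h⁻¹ * (X * E) * h with hn
  have hnH : n ∈ H := mul_mem (mul_mem (inv_mem hh) (mul_mem hX hE)) hh
  obtain ⟨y, hy⟩ : ∃ y, y = ((h⁻¹ : GL ι F) : Matrix ι ι F) *ᵥ m := ⟨_, rfl⟩
  have hyn : y ∈ lineImg K n v := by
    obtain ⟨μ, hμ⟩ := mem_lineImg.mp hl
    refine mem_lineImg.mpr ⟨μ, ?_⟩
    rw [hy, hm, hn]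
    simp only [Units.val_mul, ← mulVec_mulVec, hμ]
  have hyL : y ∉ L := by
    rintro ⟨μ, hμ⟩
    exact hmL' (mem_lineImg.mpr ⟨μ, by rw [hμ, hy, mulVec_inv_mulVec]⟩)
  have hyperp : G.phi v y = 0 := G.sep _ fun μ => by
    rw [← spec_right S G, hy, ← isom_form S hh, mulVec_inv_mulVec]
    exact hmperp _ (mem_lineImg.mpr ⟨μ, rfl⟩)
  have hle' : (L ⊓ L').map ((h⁻¹ : GL ι F) : Matrix ι ι F).mulVecLin ≤ L ⊓ lineImg K n v := by
    rintro _ ⟨x, ⟨hxL, hxL'⟩, rfl⟩
    obtain ⟨ν, hν⟩ := hxL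
    obtain ⟨μ, hμ⟩ := mem_lineImg.mp hxL'
    refine ⟨inv_mem_kline hxL', mem_lineImg.mpr ⟨μ, ?_⟩⟩
    show _ = ((h⁻¹ : GL ι F) : Matrix ι ι F) *ᵥ x
    rw [hn]
    simp only [Units.val_mul, ← mulVec_mulVec, hμ]
    rw [← hν, hEx, uMap_line D G Φ, hXx, phi_ev D.hK (G.klin v), Φ.hv, mul_zero, map_zero,
      map_zero, add_zero]
  have hge := Submodule.finrank_mono hle'
  rw [finrank_map_gl] at hge
  have hne' : lineImg K n v ≠ L := fun he => hyL (he ▸ hyn)
  exact ⟨n, hnH, hne', hpos.trans_le hge, fun g hg hgne => (hmax g hg hgne).trans hge,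
    y, hyn, hyL, hyperp⟩

/-- An element fixing a hyperplane of the line and stabilising it. -/
theorem exists_transvection (h5 : 5 ≤ r)
    (hn' : ∃ g ∈ H, ∃ (x : ι → F), G.phi x x = 0 ∧ ∃ k : K,
      (g : Matrix ι ι F) *ᵥ ((k : Matrix ι ι F) *ᵥ x) ∉ kline K ((g : Matrix ι ι F) *ᵥ x)) :
    ∃ g ∈ H, ∃ (τ : K →ₗ[F] K) (lam π : K), lam ≠ 0 ∧ π ≠ 0 ∧
      (∀ μ, (g : Matrix ι ι F) *ᵥ ev K v μ = ev K v (τ μ)) ∧
      ∀ μ, τ μ = μ + G.theta (lam * μ) • π := by
  classical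
  letI : Field K := (isField_of D.hK D.one_le).toField
  haveI : Module.Finite F K :=
    Module.finite_of_finrank_pos (by rw [D.hK.finrank_eq]; exact D.hr.pos)
  have S := D.toSetting
  have hv0 := v_ne_zero D G Φ
  obtain ⟨h, hh, hne, hpos, hmax, l, hl, hlL, hlperp⟩ := exists_max_perp D G Φ hn'
  set L := kline K v with hL
  set L' := lineImg K h v with hL'
  have hL'r : Module.finrank F L' = r := finrank_lineImg D.hK h hv0
  obtain ⟨β, hβ⟩ : ∃ β, β = G.phi w l := ⟨_, rfl⟩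
  have hβ0 : β ≠ 0 := fun h0 => hlL (mem_line_of_zero D G Φ hlperp (hβ ▸ h0))
  obtain ⟨N, hN⟩ : ∃ N, N = G.phi w w := ⟨_, rfl⟩
  have hN0 : N ≠ 0 := hN ▸ Φ.hw
  -- stabilising elements
  have claim : ∀ e ∈ H, (∀ μ, (e : Matrix ι ι F) *ᵥ ev K v μ = ev K v μ) →
      (e : Matrix ι ι F) *ᵥ l ∈ L' → ∀ x ∈ L', (e : Matrix ι ι F) *ᵥ x ∈ L' := by
    intro e he hefix hel
    have heL : lineImg K (h⁻¹ * e * h) v = L := by
      by_contra hne'
      have h2 := hmax _ (mul_mem (mul_mem (inv_mem hh) he) hh) hne'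
      set T := (L ⊓ L') ⊔ Submodule.span F {l}
      have hT : ∀ s ∈ T, s ∈ L' ∧ (e : Matrix ι ι F) *ᵥ s ∈ L' := by
        intro s hs
        obtain ⟨y, hy, z, hz, rfl⟩ := Submodule.mem_sup.mp hs
        obtain ⟨a, rfl⟩ := Submodule.mem_span_singleton.mp hz
        refine ⟨add_mem hy.2 (L'.smul_mem a hl), ?_⟩
        obtain ⟨ν, hν⟩ := hy.1
        rw [mulVec_add, mulVec_smul, ← hν, hefix ν, hν]
        exact add_mem hy.2 (L'.smul_mem a hel)
      have hlt : L ⊓ L' < T := lt_of_le_of_ne le_sup_left fun he' => hlL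
        ((he' ▸ Submodule.mem_sup_right (Submodule.mem_span_singleton_self l) : l ∈ L ⊓ L').1)
      have h3 : T.map ((h⁻¹ * e : GL ι F) : Matrix ι ι F).mulVecLin ≤
          L ⊓ lineImg K (h⁻¹ * e * h) v := by
        rintro _ ⟨s, hs, rfl⟩
        obtain ⟨μ, hμ⟩ := mem_lineImg.mp (hT s hs).1
        refine ⟨?_, mem_lineImg.mpr ⟨μ, ?_⟩⟩
        · show ((h⁻¹ * e : GL ι F) : Matrix ι ι F) *ᵥ s ∈ L
          rw [Units.val_mul, ← mulVec_mulVec]
          exact inv_mem_kline (hT s hs).2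
        · show _ = ((h⁻¹ * e : GL ι F) : Matrix ι ι F) *ᵥ s
          rw [← hμ, Units.val_mul (h⁻¹ * e) h, ← mulVec_mulVec]
      have h4 := Submodule.finrank_mono h3
      rw [finrank_map_gl] at h4
      have h5 := Submodule.finrank_lt_finrank_of_lt hlt
      omega
    intro x hx
    obtain ⟨μ, hμ⟩ := mem_lineImg.mp hx
    have h2 : ((h⁻¹ * e * h : GL ι F) : Matrix ι ι F) *ᵥ ev K v μ ∈ L :=
      heL ▸ mem_lineImg.mpr ⟨μ, rfl⟩
    rw [Units.val_mul, Units.val_mul, ← mulVec_mulVec, ← mulVec_mulVec, hμ] at h2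
    obtain ⟨ν, hν⟩ := h2
    exact mem_lineImg.mpr ⟨ν, by rw [hν, mulVec_inv_mulVec]⟩
  -- the parameters
  let φ : K →ₗ[F] (ι → F) := ev K v ∘ₗ LinearMap.mulRight F β
  have hφinj : Function.Injective φ := (ev_injective D.hK hv0).comp
    (fun a b h => mul_right_cancel₀ hβ0 h)
  set P := L'.comap φ with hPdef
  have hP : ∀ p, p ∈ P ↔ ev K v (p * β) ∈ L' := fun p => Iff.rfl
  have hPA : P.map φ = L ⊓ L' := by
    ext x
    constructor
    · rintro ⟨p, hp, rfl⟩
      exact ⟨⟨_, rfl⟩, hp⟩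
    · rintro ⟨⟨μ, rfl⟩, hx⟩
      exact ⟨μ * β⁻¹, by simpa [hP, hPdef, φ, mul_assoc, inv_mul_cancel₀ hβ0] using hx,
        by simp [φ, mul_assoc, inv_mul_cancel₀ hβ0]⟩
  have hPfr : Module.finrank F P = Module.finrank F ↥(L ⊓ L') := by
    rw [← hPA]
    exact ((Submodule.equivMapOfInjective φ hφinj P).finrank_eq)
  have hlt : Module.finrank F ↥(L ⊓ L') < r := by
    by_contra hc
    push Not at hc
    have h1 : L ⊓ L' = L' := Submodule.eq_of_le_of_finrank_le inf_le_right (by omega)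
    exact hlL ((le_of_eq h1.symm) hl).1
  have hPbot : P ≠ ⊥ := fun h0 => by
    rw [h0, finrank_bot] at hPfr
    omega
  have hPtop : P ≠ ⊤ := fun h0 => by
    rw [h0, finrank_top, D.hK.finrank_eq] at hPfr
    omega
  have hstab : ∀ p ∈ P, ∀ x ∈ L', uMap G v w p x ∈ L' := by
    intro p hp
    obtain ⟨e, he, hex⟩ := exists_uMap D G Φ p
    intro x hx
    rw [← hex]
    refine claim e he (fun μ => by rw [hex, uMap_line D G Φ]) ?_ x hx
    rw [hex, uMap_perp D G Φ p hlperp, ← hβ]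
    exact sub_mem hl hp
  -- the values of the pairing with the line
  have hprod : ∀ x ∈ L', ∀ p ∈ P, ∀ q ∈ P, G.phi v x * N * β⁻¹ * p * q ∈ P := by
    intro x hx p hp q hq
    have h1 : uMap G v w p x - x ∈ L' := sub_mem (hstab p hp x hx) hx
    have h2 : G.phi v (uMap G v w p x - x) = 0 := by
      rw [map_sub, phi_v_uMap D G Φ, sub_self]
    have h3 := sub_mem h1 (hstab q hq _ h1)
    rw [uMap_perp D G Φ q h2, sub_sub_cancel, map_sub, phi_w_uMap D G Φ, add_sub_cancel_left,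
      ← hN] at h3
    rw [hP]
    convert h3 using 2
    field_simp
  obtain ⟨p0, hp0, hp00⟩ := Submodule.exists_mem_ne_zero_of_ne_bot hPbot
  have hbase : ∀ x ∈ L', ∀ p ∈ P, ∃ s : F, G.phi v x * N * β⁻¹ * p = algebraMap F K s :=
    fun x hx p hp => mem_base_of_stable (by rw [D.hK.finrank_eq]; exact D.hr) hPbot hPtop
      fun q hq => hprod x hx p hp q hq
  have hsmall : ∀ x ∈ L', G.phi v x ≠ 0 → Module.finrank F P ≤ 1 := by
    intro x hx hx0
    have hd : G.phi v x * N * β⁻¹ ≠ 0 := mul_ne_zero (mul_ne_zero hx0 hN0) (inv_ne_zero hβ0)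
    refine (Submodule.finrank_mono (t := Submodule.span F {(G.phi v x * N * β⁻¹)⁻¹}) ?_).trans
      ((finrank_span_le_card _).trans (by simp))
    intro p hp
    obtain ⟨s, hs⟩ := hbase x hx p hp
    refine Submodule.mem_span_singleton.mpr ⟨s, ?_⟩
    rw [Algebra.smul_def, ← hs]
    field_simp
  let χ : L' →ₗ[F] K := G.phi v ∘ₗ L'.subtype
  set Z := LinearMap.ker χ with hZ
  have hZbound : Module.finrank F Z ≤ Module.finrank F ↥(L ⊓ L') + 1 := by
    have hle : Z.map L'.subtype ≤ (L ⊓ L') ⊔ Submodule.span F {l} := by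
      rintro _ ⟨⟨x, hx⟩, hx0, rfl⟩
      have hxv : G.phi v x = 0 := hx0
      obtain ⟨s, hs⟩ : ∃ s : F, G.phi w x * β⁻¹ = algebraMap F K s :=
        mem_base_of_stable (by rw [D.hK.finrank_eq]; exact D.hr) hPbot hPtop fun p hp => by
          have h1 := sub_mem hx (hstab p hp x hx)
          rw [uMap_perp D G Φ p hxv, sub_sub_cancel] at h1
          rw [hP]
          convert h1 using 2
          field_simp
      have h2 : x - s • l ∈ L := mem_line_of_zero D G Φ
        (by rw [map_sub, map_smul, hxv, hlperp, smul_zero, sub_zero])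
        (by
          rw [map_sub, map_smul, ← hβ, Algebra.smul_def, ← hs]
          field_simp
          ring)
      show x ∈ _
      rw [← sub_add_cancel x (s • l)]
      exact Submodule.add_mem_sup ⟨h2, sub_mem hx (L'.smul_mem s hl)⟩
        (Submodule.smul_mem _ s (Submodule.mem_span_singleton_self l))
    have h1 := Submodule.finrank_mono hle
    rw [Submodule.finrank_map_subtype_eq] at h1
    have h2 := Submodule.finrank_add_le_finrank_add_finrank (L ⊓ L') (Submodule.span F {l})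
    have h3 : Module.finrank F (Submodule.span F {l}) ≤ 1 :=
      (finrank_span_le_card _).trans (by simp)
    omega
  have hrank : Module.finrank F ↥(L ⊓ L') + 1 = r := by
    have h1 := LinearMap.finrank_range_add_finrank_ker χ
    rw [← hZ, hL'r] at h1
    by_cases hzero : ∀ x ∈ L', G.phi v x = 0
    · have h2 : LinearMap.range χ = ⊥ := by
        rw [LinearMap.range_eq_bot]
        exact LinearMap.ext fun x => hzero x x.2
      rw [h2, finrank_bot] at h1
      omega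
    push Not at hzero
    obtain ⟨x, hx, hx0⟩ := hzero
    have h2 := hsmall x hx hx0
    have h3 : LinearMap.range χ ≤ Submodule.span F {β * (p0 * N)⁻¹} := by
      rintro _ ⟨⟨y, hy⟩, rfl⟩
      obtain ⟨s, hs⟩ := hbase y hy p0 hp0
      refine Submodule.mem_span_singleton.mpr ⟨s, ?_⟩
      rw [Algebra.smul_def, ← hs]
      show _ = G.phi v y
      field_simp
    have h4 := Submodule.finrank_mono h3
    have h5 : Module.finrank F (Submodule.span F {β * (p0 * N)⁻¹}) ≤ 1 :=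
      (finrank_span_le_card _).trans (by simp)
    omega
  -- the element
  obtain ⟨E, hE, hEx⟩ := exists_uMap D G Φ p0
  have hEL' : ∀ x ∈ L', (E : Matrix ι ι F) *ᵥ x ∈ L' := fun x hx => by
    rw [hEx]; exact hstab p0 hp0 x hx
  set g := h⁻¹ * E * h with hg
  let τ : K →ₗ[F] K := G.phi v' ∘ₗ (g : Matrix ι ι F).mulVecLin ∘ₗ ev K v
  have hτ : ∀ μ, (g : Matrix ι ι F) *ᵥ ev K v μ = ev K v (τ μ) := by
    intro μ
    obtain ⟨ν, hν⟩ := mem_lineImg.mp (hEL' _ (mem_lineImg.mpr ⟨μ, rfl⟩))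
    have e1 : (g : Matrix ι ι F) *ᵥ ev K v μ = ev K v ν := by
      rw [hg]
      simp only [Units.val_mul, ← mulVec_mulVec]
      rw [← hν, inv_mulVec_mulVec]
    have e2 : τ μ = ν := by
      show G.phi v' ((g : Matrix ι ι F) *ᵥ ev K v μ) = ν
      rw [e1, phi_ev D.hK (G.klin v'), phi_v'_v D G Φ, mul_one]
    rw [e2, e1]
  set R := LinearMap.range (τ - LinearMap.id) with hR
  have hB : Module.finrank F ↥(L ⊓ L') ≤ Module.finrank F (LinearMap.ker (τ - LinearMap.id)) := by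
    have hle : L ⊓ L' ≤ (LinearMap.ker (τ - LinearMap.id)).map
        ((h : Matrix ι ι F).mulVecLin ∘ₗ ev K v) := by
      rintro x ⟨⟨ν, hν⟩, hx'⟩
      obtain ⟨μ, hμ⟩ := mem_lineImg.mp hx'
      refine ⟨μ, ?_, hμ⟩
      show τ μ - μ = 0
      refine sub_eq_zero.mpr (ev_injective D.hK hv0 ?_)
      rw [← hτ, hg]
      simp only [Units.val_mul, ← mulVec_mulVec]
      rw [hμ, hEx, ← hν, uMap_line D G Φ, hν, ← hμ, inv_mulVec_mulVec]
    exact (Submodule.finrank_mono hle).trans (Submodule.finrank_map_le _ _)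
  have hR1 : Module.finrank F R ≤ 1 := by
    have h1 := LinearMap.finrank_range_add_finrank_ker (τ - LinearMap.id)
    rw [D.hK.finrank_eq, ← hR] at h1
    omega
  obtain ⟨μ0, hμ0⟩ : ∃ μ, τ μ ≠ μ := by
    by_contra hc
    push Not at hc
    obtain ⟨μ, hμ⟩ := mem_lineImg.mp hl
    have h1 := hτ μ
    rw [hc, hg] at h1
    simp only [Units.val_mul, ← mulVec_mulVec] at h1
    have h2 : (E : Matrix ι ι F) *ᵥ l = l := by
      have h3 := congrArg (fun z => (h : Matrix ι ι F) *ᵥ z) h1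
      simp only [mulVec_inv_mulVec, hμ] at h3
      exact h3
    rw [hEx, uMap_perp D G Φ p0 hlperp, ← hβ, sub_eq_self] at h2
    exact mul_ne_zero hp00 hβ0 (ev_injective D.hK hv0 (h2.trans (map_zero _).symm))
  obtain ⟨π, hπ⟩ : ∃ π, π = τ μ0 - μ0 := ⟨_, rfl⟩
  have hπ0 : π ≠ 0 := hπ ▸ sub_ne_zero.mpr hμ0
  have hπR : π ∈ R := ⟨μ0, hπ.symm⟩
  have hspan : R = Submodule.span F {π} := by
    refine (Submodule.eq_of_le_of_finrank_le ((Submodule.span_singleton_le_iff_mem _ _).mpr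
      hπR) ?_).symm
    rw [finrank_span_singleton hπ0]
    exact hR1
  obtain ⟨kd, hkd⟩ : ∃ kd : K, G.theta (kd * π) = 1 := by
    obtain ⟨k, hk⟩ : ∃ k, G.theta (k * π) ≠ 0 := by
      by_contra hc
      push Not at hc
      exact hπ0 (G.sep π hc)
    exact ⟨(G.theta (k * π))⁻¹ • k, by
      rw [smul_mul_assoc, map_smul, smul_eq_mul, inv_mul_cancel₀ hk]⟩
  let Λ : K →ₗ[F] Module.Dual F K :=
    { toFun := fun a => G.theta ∘ₗ LinearMap.mulLeft F a
      map_add' := fun a b => LinearMap.ext fun z => by simp [add_mul]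
      map_smul' := fun c a => LinearMap.ext fun z => by simp }
  have hΛ : Function.Surjective Λ :=
    (LinearMap.injective_iff_surjective_of_finrank_eq_finrank
      Subspace.dual_finrank_eq.symm).mp ((injective_iff_map_eq_zero _).mpr fun a ha =>
      G.sep a fun k => by rw [mul_comm]; exact LinearMap.congr_fun ha k)
  obtain ⟨lam, hlam⟩ := hΛ (G.theta ∘ₗ LinearMap.mulLeft F kd ∘ₗ (τ - LinearMap.id))
  have hτπ : ∀ μ, τ μ = μ + G.theta (lam * μ) • π := by
    intro μ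
    have h1 : G.theta (lam * μ) = G.theta (kd * (τ μ - μ)) := LinearMap.congr_fun hlam μ
    have h0 : (τ - LinearMap.id : K →ₗ[F] K) μ ∈ R := ⟨μ, rfl⟩
    rw [hspan] at h0
    obtain ⟨s, hs⟩ := Submodule.mem_span_singleton.mp h0
    have h2 : τ μ - μ = s • π := hs.symm
    rw [h1, h2, mul_smul_comm, map_smul, hkd, smul_eq_mul, mul_one, ← h2, add_sub_cancel]
  refine ⟨g, mul_mem (mul_mem (inv_mem hh) hE) hh, τ, lam, π, fun h0 => hμ0 ?_, hπ0, hτ, hτπ⟩
  rw [hτπ μ0, h0, zero_mul, map_zero, zero_smul, add_zero]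

end Cfsg.Agent.ExtFieldMax.Orth.Three
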